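import Groth.Agent.L22.GeomConn.Finite
import Groth.Agent.L07.CIScheme
import Groth.Agent.S6333

/-!
# Irreducible components and extensions of the base field
-/

set_option autoImplicit false
universe u

open CategoryTheory CategoryTheory.Limits AlgebraicGeometry Set TensorProduct

set_option backward.isDefEq.respectTransparency.types false

namespace Groth.L22.GeomConn

variable {k : Type u} [Field k] {X : Scheme.{u}} (f : X ⟶ Spec (CommRingCat.of k))

/-- The separable closure of `k` in a residue field of a scheme locally of finite type is finite. -/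
theorem finiteDimensional_separableClosure [LocallyOfFiniteType f] (x : X) [Algebra k (X.residueField x)]
    (hψ : Spec.map (CommRingCat.ofHom (algebraMap k (X.residueField x))) = X.fromSpecResidueField x ≫ f) :
    FiniteDimensional k (separableClosure k (X.residueField x)) := by
  have h := Groth.L07.CIScheme.residueField_fg f x (CommRingCat.ofHom (algebraMap k (X.residueField x))) hψ
  have h' : @FiniteDimensional k _ _ _ _ := Groth.Agent.S6333.result (k := k) (K := X.residueField x) (by
    obtain ⟨s, hs⟩ := h
    refine ⟨s, ?_⟩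
    convert hs
    all_goals exact Algebra.algebra_ext _ _ fun r => rfl)
  haveI := h'
  have hle : separableClosure k (X.residueField x) ≤ algebraicClosure k (X.residueField x) := fun a ha =>
    mem_algebraicClosure_iff.2 (mem_separableClosure_iff.1 ha).isIntegral.isAlgebraic
  exact FiniteDimensional.of_injective (IntermediateField.inclusion hle).toLinearMap (IntermediateField.inclusion hle).injective

instance flat_bcπ (K : Type u) [Field K] [Algebra k K] : Flat (FBase.bcπ f K) := by
  haveI : Flat (specMap k K) := by
    rw [Flat.SpecMap_iff]; exact RingHom.flat_algebraMap_iff.mpr inferInstance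
  exact MorphismProperty.pullback_fst _ _ ‹Flat (specMap k K)›

theorem flat_bcMap (L K : Type u) [Field L] [Field K] [Algebra k L] [Algebra k K] [Algebra L K]
    [IsScalarTower k L K] : Flat (bcMap f L K) := by
  haveI : Flat (specMap L K) := by
    rw [Flat.SpecMap_iff]; exact RingHom.flat_algebraMap_iff.mpr inferInstance
  exact MorphismProperty.of_isPullback (isPullback_bcMap f L K).flip ‹Flat (specMap L K)›

section Generic

variable {Y : Scheme.{u}}

/-- A maximal point: no proper generalization. -/
def IsMaxPt (y : Y) : Prop := ∀ w : Y, w ⤳ y → w = y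

theorem isMaxPt_genericPoint (T : Set Y) (hT : T ∈ irreducibleComponents Y) : IsMaxPt hT.1.genericPoint := fun w hw => by
  have hcl : closure ({hT.1.genericPoint} : Set Y) = T :=
    hT.1.isGenericPoint_genericPoint (isClosed_of_mem_irreducibleComponents _ hT)
  have hsub : T ⊆ closure {w} := hcl ▸ closure_minimal (singleton_subset_iff.2 hw.mem_closure) isClosed_closure
  have heq : closure ({w} : Set Y) = T := subset_antisymm (hT.2 isIrreducible_singleton.closure hsub) hsub
  exact (show IsGenericPoint w T from heq).eq (show IsGenericPoint hT.1.genericPoint T from hcl)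

theorem closure_mem_irreducibleComponents {y : Y} (hy : IsMaxPt y) : closure {y} ∈ irreducibleComponents Y := by
  refine ⟨isIrreducible_singleton.closure, fun T hT hsub => ?_⟩
  have hg : IsGenericPoint hT.genericPoint (closure T) := hT.isGenericPoint_genericPoint_closure
  have hsp : hT.genericPoint ⤳ y := hg.specializes (subset_closure (hsub (subset_closure rfl)))
  rw [← hy _ hsp]
  exact subset_closure.trans hg.symm.subset

theorem exists_isMaxPt_specializes (y : Y) : ∃ t : Y, IsMaxPt t ∧ t ⤳ y := by
  have hT := irreducibleComponent_mem_irreducibleComponents y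
  refine ⟨hT.1.genericPoint, isMaxPt_genericPoint _ hT, ?_⟩
  exact (hT.1.isGenericPoint_genericPoint (isClosed_of_mem_irreducibleComponents _ hT)).specializes mem_irreducibleComponent

/-- A flat morphism maps maximal points to maximal points. -/
theorem IsMaxPt.map' {y t : Y} (hy : IsMaxPt y) (h : t ⤳ y) : y = t := (hy t h).symm

/-- A flat morphism maps maximal points to maximal points. -/
theorem IsMaxPt.map {Z : Scheme.{u}} (g : Y ⟶ Z) [Flat g] {y : Y} (hy : IsMaxPt y) : IsMaxPt (g y) := fun w hw => by
  obtain ⟨v, hv, rfl⟩ := Flat.generalizingMap g hw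
  rw [hy v hv]

end Generic

theorem image_closure_algebraic (K : Type u) [Field K] [Algebra k K] [Algebra.IsAlgebraic k K] (t : ↥(FBase.bc f K)) :
    FBase.bcπ f K '' closure {t} = closure {FBase.bcπ f K t} := by
  refine subset_antisymm ((image_closure_subset_closure_image (FBase.bcπ f K).continuous).trans (by rw [image_singleton])) ?_
  have := isIntegralHom_bcπ f K
  exact closure_minimal (by simpa using ⟨t, subset_closure rfl, rfl⟩) ((FBase.bcπ f K).isClosedMap _ isClosed_closure)

/-- The closure of a maximal point of `X_K` maps onto the closure of its image. -/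
theorem image_closure_of_isMaxPt (K : Type u) [Field K] [Algebra k K] {t : ↥(FBase.bc f K)} (ht : IsMaxPt t) :
    FBase.bcπ f K '' closure {t} = closure {FBase.bcπ f K t} := by
  refine subset_antisymm ((image_closure_subset_closure_image (FBase.bcπ f K).continuous).trans (by rw [image_singleton])) ?_
  obtain ⟨_, _⟩ := exists_closure (k := k) K
  have := geometricallyIrreducible_bcMap f (AlgebraicClosure k) (AlgebraicClosure K)
  have := flat_bcMap f K (AlgebraicClosure K)
  have := flat_bcMap f (AlgebraicClosure k) (AlgebraicClosure K)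
  obtain ⟨s, hs⟩ := (bcMap f K (AlgebraicClosure K)).surjective t
  obtain ⟨t', ht', hts⟩ := exists_isMaxPt_specializes s
  have e : bcMap f K (AlgebraicClosure K) t' = t := ht _ (hs ▸ hts.map (Scheme.Hom.continuous _))
  set u := bcMap f (AlgebraicClosure k) (AlgebraicClosure K) t' with hu
  have hpre : bcMap f (AlgebraicClosure k) (AlgebraicClosure K) ⁻¹' closure {u} = closure {t'} := by
    refine subset_antisymm ((closure_mem_irreducibleComponents ht').2
      ((bcMap f (AlgebraicClosure k) (AlgebraicClosure K)).isIrreducible_preimage (Scheme.Hom.isOpenMap _)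
        isIrreducible_singleton.closure) ?_) ?_
    · exact closure_minimal (singleton_subset_iff.2 (subset_closure rfl)) (isClosed_closure.preimage (Scheme.Hom.continuous _))
    · exact closure_minimal (singleton_subset_iff.2 (subset_closure rfl)) (isClosed_closure.preimage (Scheme.Hom.continuous _))
  have hπ : FBase.bcπ f K t = FBase.bcπ f (AlgebraicClosure k) u := by
    rw [hu, bcMap_π_apply, ← e, bcMap_π_apply]
  rw [hπ, ← image_closure_algebraic f (AlgebraicClosure k) u]
  rintro _ ⟨b, hb, rfl⟩
  obtain ⟨a, rfl⟩ := (bcMap f (AlgebraicClosure k) (AlgebraicClosure K)).surjective b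
  have ha : a ∈ closure {t'} := hpre.subset hb
  refine ⟨bcMap f K (AlgebraicClosure K) a, ?_, by rw [bcMap_π_apply, bcMap_π_apply]⟩
  rw [← e, ← image_singleton]
  exact image_closure_subset_closure_image (Scheme.Hom.continuous _) ⟨a, ha, rfl⟩

/-- Images of irreducible components are irreducible components. -/
theorem image_irreducibleComponent (K : Type u) [Field K] [Algebra k K] {T : Set ↥(FBase.bc f K)}
    (hT : T ∈ irreducibleComponents ↥(FBase.bc f K)) : FBase.bcπ f K '' T ∈ irreducibleComponents ↥X := by
  have h := isMaxPt_genericPoint T hT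
  have e : closure ({hT.1.genericPoint} : Set ↥(FBase.bc f K)) = T :=
    hT.1.isGenericPoint_genericPoint (isClosed_of_mem_irreducibleComponents _ hT)
  rw [← e, image_closure_of_isMaxPt f K h]
  exact closure_mem_irreducibleComponents (h.map _)

theorem exists_component_over (K : Type u) [Field K] [Algebra k K] {Z : Set ↥X} (hZ : Z ∈ irreducibleComponents ↥X)
    (w : ↥(FBase.bc f K)) (hw : FBase.bcπ f K w ∈ Z) :
    ∃ T ∈ irreducibleComponents ↥(FBase.bc f K), w ∈ T ∧ FBase.bcπ f K '' T = Z := by
  have hη := isMaxPt_genericPoint Z hZ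
  have hcl : closure ({hZ.1.genericPoint} : Set X) = Z :=
    hZ.1.isGenericPoint_genericPoint (isClosed_of_mem_irreducibleComponents _ hZ)
  obtain ⟨v, hv, hve⟩ := Flat.generalizingMap (FBase.bcπ f K)
    (specializes_iff_mem_closure.2 (hcl.symm.subset hw))
  obtain ⟨t, ht, htv⟩ := exists_isMaxPt_specializes v
  refine ⟨closure {t}, closure_mem_irreducibleComponents ht, (htv.trans hv).mem_closure, ?_⟩
  rw [image_closure_of_isMaxPt f K ht, show FBase.bcπ f K t = hZ.1.genericPoint from
    hη _ (hve ▸ htv.map (Scheme.Hom.continuous _)), hcl]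

theorem geometricallyIrreducible_specMap (K : Type u) [Field K] [Algebra k K] [IsSepClosed k] :
    GeometricallyIrreducible (specMap k K) := by
  refine ⟨geometrically_iff_of_isClosedUnderIsomorphisms.mpr fun Ω _ y => ?_⟩
  obtain ⟨φ, rfl⟩ := Spec.map_surjective y
  algebraize [φ.hom]
  have hp : (nilradical (K ⊗[k] Ω)).IsPrime := Groth.L02.SepClosedTensor.isPrime_nilradical_tensor
    (by rw [nilradical_eq_zero]; exact Ideal.isPrime_bot) (by rw [nilradical_eq_zero]; exact Ideal.isPrime_bot)
  have : IrreducibleSpace ↥(Spec (CommRingCat.of (K ⊗[k] Ω))) := PrimeSpectrum.irreducibleSpace_iff_isPrime_nilradical.2 hp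
  exact (pullbackSpecIso k K Ω).inv.homeomorph.irreducibleSpace_iff.mp inferInstance

theorem geometricallyIrreducible_bcπ (K : Type u) [Field K] [Algebra k K] [IsSepClosed k] :
    GeometricallyIrreducible (FBase.bcπ f K) :=
  MorphismProperty.pullback_fst _ _ (geometricallyIrreducible_specMap K)

theorem geometricallyConnected_of_sepClosed (K₀ : Type u) [Field K₀] [Algebra k K₀] [Algebra.IsAlgebraic k K₀]
    [IsSepClosed K₀] [ConnectedSpace ↥(FBase.bc f K₀)] : GeometricallyConnected f := by
  refine ⟨geometrically_iff_of_isClosedUnderIsomorphisms.mpr fun K _ y => ?_⟩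
  obtain ⟨θ, rfl⟩ := Spec.map_surjective y
  algebraize [θ.hom]
  have h' := isConnected_preimage_tower f k K₀ K Set.univ isClosed_univ
    (by rw [Set.preimage_univ]; exact isConnected_univ)
  rw [Set.preimage_univ] at h'
  exact connectedSpace_iff_univ.2 h'

theorem geometricallyIrreducible_of_sepClosed (K₀ : Type u) [Field K₀] [Algebra k K₀] [Algebra.IsAlgebraic k K₀]
    [IsSepClosed K₀] [IrreducibleSpace ↥(FBase.bc f K₀)] : GeometricallyIrreducible f := by
  refine ⟨geometrically_iff_of_isClosedUnderIsomorphisms.mpr fun K _ y => ?_⟩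
  obtain ⟨θ, rfl⟩ := Spec.map_surjective y
  algebraize [θ.hom]
  have h' := isIrreducible_preimage_tower f k K₀ K Set.univ
    (by rw [Set.preimage_univ]; exact IrreducibleSpace.isIrreducible_univ _)
  rw [Set.preimage_univ] at h'
  exact (irreducibleSpace_def _).2 h'

/-- Irreducibility is detected at finite levels. -/
theorem irreducibleSpace_of_finite_levels (K : Type u) [Field K] [Algebra k K] [Algebra.IsAlgebraic k K]
    (h : ∀ L : {L : IntermediateField k K // FiniteDimensional k L}, IrreducibleSpace ↥(FBase.bc f L.1)) :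
    IrreducibleSpace ↥(FBase.bc f K) := by
  obtain ⟨a⟩ := (h (Classical.arbitrary _)).toNonempty
  obtain ⟨z, -⟩ := (bcMap f _ K).surjective a
  haveI : Nonempty ↥(FBase.bc f K) := ⟨z⟩
  refine { toPreirreducibleSpace := ⟨fun U W hU hW ⟨a, _, ha⟩ ⟨b, _, hb⟩ => ?_⟩, toNonempty := ⟨z⟩ }
  obtain ⟨i, V, hV, haV, hVU⟩ := basis_finite_level f K U hU a ha
  obtain ⟨j, V', hV', hbV, hVW⟩ := basis_finite_level f K W hW b hb
  obtain ⟨l, hil, hjl⟩ := exists_ge_ge i j
  haveI := h l
  letI := (IntermediateField.inclusion hil).toRingHom.toAlgebra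
  letI := (IntermediateField.inclusion hjl).toRingHom.toAlgebra
  haveI : IsScalarTower k i.1 l.1 := .of_algebraMap_eq fun _ => rfl
  haveI : IsScalarTower k j.1 l.1 := .of_algebraMap_eq fun _ => rfl
  have ei : ∀ z, bcMap f i.1 l.1 (bcMap f l.1 K z) = bcMap f i.1 K z := fun z => (sys f K).htq hil z
  have ej : ∀ z, bcMap f j.1 l.1 (bcMap f l.1 K z) = bcMap f j.1 K z := fun z => (sys f K).htq hjl z
  have hV1 : IsOpen (bcMap f i.1 l.1 ⁻¹' V) := hV.preimage (bcMap f i.1 l.1).continuous
  have hV2 : IsOpen (bcMap f j.1 l.1 ⁻¹' V') := hV'.preimage (bcMap f j.1 l.1).continuous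
  obtain ⟨c, hc1, hc2⟩ := nonempty_preirreducible_inter hV1 hV2
    ⟨bcMap f l.1 K a, by rw [mem_preimage, ei]; exact haV⟩
    ⟨bcMap f l.1 K b, by rw [mem_preimage, ej]; exact hbV⟩
  obtain ⟨d, rfl⟩ := (bcMap f l.1 K).surjective c
  refine ⟨d, trivial, hVU ?_, hVW ?_⟩
  · rw [mem_preimage, ← ei]; exact hc1
  · rw [mem_preimage, ← ej]; exact hc2

/-- With `k` separably algebraically closed in `κ(x)`, the fibre over `x` in any `X_K` is irreducible. -/
theorem isIrreducible_fibre (K : Type u) [Field K] [Algebra k K] (x : X) [Algebra k (X.residueField x)]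
    (hψ : Spec.map (CommRingCat.ofHom (algebraMap k (X.residueField x))) = X.fromSpecResidueField x ≫ f)
    (hsep : ∀ a : X.residueField x, IsSeparable k a → a ∈ Set.range (algebraMap k (X.residueField x))) :
    IsIrreducible (FBase.bcπ f K ⁻¹' {x}) := by
  have := Groth.L02.GeomIrredField.irreducible_of_separable_elements hsep K
  have hirr : IrreducibleSpace (PrimeSpectrum (X.residueField x ⊗[k] K)) :=
    (PrimeSpectrum.homeomorphOfRingEquiv (Algebra.TensorProduct.comm k K (X.residueField x)).toRingEquiv).irreducibleSpace_iff.mp this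
  haveI : IrreducibleSpace ↥(Spec (CommRingCat.of (X.residueField x ⊗[k] K))) := hirr
  haveI : IrreducibleSpace ↥(pullback (specMap k (X.residueField x)) (specMap k K)) :=
    (pullbackSpecIso k (X.residueField x) K).inv.homeomorph.irreducibleSpace_iff.mp inferInstance
  let c : pullback (specMap k (X.residueField x)) (specMap k K) ⟶ FBase.bc f K :=
    pullback.map _ _ _ _ (X.fromSpecResidueField x) (𝟙 _) (𝟙 _)
      (by rw [Category.comp_id]; exact hψ) (by rw [Category.comp_id, Category.id_comp])
  have e : Set.range c = FBase.bcπ f K ⁻¹' {x} := by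
    refine (Scheme.Pullback.range_map _ _ _ _ _ _ _ _ _).trans ?_
    rw [Scheme.range_fromSpecResidueField]
    refine Set.inter_eq_left.2 fun v _ => ?_
    exact ⟨(FBase.bcStr f K).base v, rfl⟩
  rw [← e, ← image_univ]
  exact (IrreducibleSpace.isIrreducible_univ _).image c c.continuous.continuousOn

end Groth.L22.GeomConn
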