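import Groth.Agent.L22.GeomConn.Irred
import Mathlib.AlgebraicGeometry.Morphisms.Preimmersion
import Mathlib.CategoryTheory.MorphismProperty.Limits

/-!
# Criteria for geometric irreducibility
-/

set_option autoImplicit false
universe u

open CategoryTheory CategoryTheory.Limits AlgebraicGeometry Set TensorProduct IntermediateField

set_option backward.isDefEq.respectTransparency.types false

namespace Groth.L22.GeomConn

variable {k : Type u} [Field k]

theorem separable_elements_of_isPrime {K : Type u} [Field K] [Algebra k K]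
    (h : (nilradical (K ⊗[k] K)).IsPrime) (α : K) (hα : IsSeparable k α) : α ∈ Set.range (algebraMap k K) := by
  by_contra hnot
  haveI : FiniteDimensional k k⟮α⟯ := adjoin.finiteDimensional hα.isIntegral
  haveI : Algebra.IsSeparable k k⟮α⟯ := (isSeparable_adjoin_simple_iff_isSeparable (F := k) (E := K)).mpr hα
  haveI : Algebra.FormallyEtale k k⟮α⟯ := Algebra.FormallyEtale.of_isSeparable k k⟮α⟯
  haveI : IsReduced (k⟮α⟯ ⊗[k] k⟮α⟯) :=
    Algebra.FormallyUnramified.isReduced_of_field k⟮α⟯ (k⟮α⟯ ⊗[k] k⟮α⟯)
  let ι := (Algebra.TensorProduct.map k⟮α⟯.val (AlgHom.id k K)).comp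
    (Algebra.TensorProduct.map (AlgHom.id k k⟮α⟯) k⟮α⟯.val)
  have hι : Function.Injective ι :=
    (Module.Flat.rTensor_preserves_injective_linearMap (M := K) k⟮α⟯.val.toLinearMap Subtype.val_injective).comp
    (Module.Flat.lTensor_preserves_injective_linearMap (M := k⟮α⟯) k⟮α⟯.val.toLinearMap Subtype.val_injective)
  have hp' := Groth.L02.SepClosedTensor.isPrime_nilradical_of_injective ι.toRingHom hι h
  rw [nilradical_eq_zero] at hp'
  haveI : NoZeroDivisors (k⟮α⟯ ⊗[k] k⟮α⟯) :=
    ⟨fun {a b} hab => by simpa using hp'.mem_or_mem (by simp [hab] : a * b ∈ (0 : Ideal _))⟩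
  haveI : Nontrivial (k⟮α⟯ ⊗[k] k⟮α⟯) := ⟨1, 0, fun h1 => hp'.ne_top ((Ideal.eq_top_iff_one _).mpr (by simp [h1]))⟩
  haveI : IsDomain (k⟮α⟯ ⊗[k] k⟮α⟯) := NoZeroDivisors.to_isDomain (k⟮α⟯ ⊗[k] k⟮α⟯)
  have hfield : IsField (k⟮α⟯ ⊗[k] k⟮α⟯) := isField_of_isIntegral_of_isField' (R := k) (S := k⟮α⟯ ⊗[k] k⟮α⟯) (Field.toIsField k)
  have hinj : Function.Injective (Algebra.TensorProduct.lmul' k : k⟮α⟯ ⊗[k] k⟮α⟯ →ₐ[k] k⟮α⟯) :=
    (injective_iff_map_eq_zero _).mpr fun x hx => by
      by_contra hx0
      obtain ⟨y, hy⟩ := hfield.mul_inv_cancel hx0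
      simpa [hx] using congrArg (Algebra.TensorProduct.lmul' k : k⟮α⟯ ⊗[k] k⟮α⟯ →ₐ[k] k⟮α⟯) hy
  have hle := LinearMap.finrank_le_finrank_of_injective (f := (Algebra.TensorProduct.lmul' k :
    k⟮α⟯ ⊗[k] k⟮α⟯ →ₐ[k] k⟮α⟯).toLinearMap) hinj
  rw [Module.finrank_tensorProduct] at hle
  have hpos : 0 < Module.finrank k k⟮α⟯ := Module.finrank_pos
  have hne : Module.finrank k k⟮α⟯ ≠ 1 := by
    rw [Ne, IntermediateField.finrank_eq_one_iff, adjoin_simple_eq_bot_iff, mem_bot]
    exact hnot
  nlinarith [show 2 ≤ Module.finrank k k⟮α⟯ by omega]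

theorem separable_elements_of_irreducibleSpace {K : Type u} [Field K] [Algebra k K]
    [IrreducibleSpace ↥(pullback (specMap k K) (specMap k K))] (α : K) (hα : IsSeparable k α) :
    α ∈ Set.range (algebraMap k K) := by
  refine separable_elements_of_isPrime ?_ α hα
  rw [← PrimeSpectrum.irreducibleSpace_iff_isPrime_nilradical]
  exact (pullbackSpecIso k K K).hom.homeomorph.irreducibleSpace_iff.mp inferInstance

variable {X : Scheme.{u}} (f : X ⟶ Spec (CommRingCat.of k))

theorem flat_toSpecField : Flat f := by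
  rw [HasRingHomProperty.iff_appLE (P := @Flat)]
  intro U V e
  rcases Set.eq_empty_or_nonempty (U.1 : Set (Spec (CommRingCat.of k))) with h | ⟨x, hx⟩
  · have : (U.1 : (Spec (CommRingCat.of k)).Opens) = ⊥ := TopologicalSpace.Opens.ext h
    have : Subsingleton Γ(Spec (CommRingCat.of k), U.1) := by rw [this]; infer_instance
    have : Subsingleton Γ(X, V.1) := RingHom.codomain_trivial (f.appLE U.1 V.1 e).hom
    exact RingHom.Flat.of_bijective ⟨fun a b _ => Subsingleton.elim a b, fun b => ⟨0, Subsingleton.elim _ _⟩⟩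
  · have hU : (U.1 : (Spec (CommRingCat.of k)).Opens) = ⊤ :=
      TopologicalSpace.Opens.ext (Set.eq_univ_of_forall fun y => Subsingleton.elim x y ▸ hx)
    refine RingHom.Flat.of_isField ?_ _
    rw [hU]
    exact (Scheme.ΓSpecIso (CommRingCat.of k)).commRingCatIsoToRingEquiv.toMulEquiv.isField (Field.toIsField k)

theorem isMaxPt_genericPoint' [IrreducibleSpace X] : IsMaxPt (genericPoint X) := fun _ hw =>
  (hw.antisymm ((genericPoint_spec X).specializes trivial)).eq

/-- If `X ×ₖ X` is irreducible then `k` is separably closed in the residue field at the generic point. -/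
theorem separable_elements_of_irreducible_prod_aux [IrreducibleSpace X] [IrreducibleSpace ↥(pullback f f)]
    (L : Type u) [Field L] [Algebra k L] (ξ : Spec (CommRingCat.of L) ⟶ X) [IsPreimmersion ξ]
    (hξ : specMap k L = ξ ≫ f) (hr : Set.range ξ = {genericPoint X})
    (α : L) (hα : IsSeparable k α) : α ∈ Set.range (algebraMap k L) := by
  let c : pullback (specMap k L) (specMap k L) ⟶ pullback f f :=
    pullback.map _ _ _ _ ξ ξ (𝟙 _) (by rw [Category.comp_id, hξ]) (by rw [Category.comp_id, hξ])
  haveI : IsPreimmersion c := MorphismProperty.pullbackMap (P := @IsPreimmersion) inferInstance inferInstance hξ hξ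
  haveI := flat_toSpecField f
  have hmax := isMaxPt_genericPoint' (X := pullback f f)
  have hfst : pullback.fst f f (genericPoint ↥(pullback f f)) = genericPoint X :=
    IsMaxPt.map' (IsMaxPt.map (pullback.fst f f) hmax) ((genericPoint_spec X).specializes trivial)
  have hsnd : pullback.snd f f (genericPoint ↥(pullback f f)) = genericPoint X :=
    IsMaxPt.map' (IsMaxPt.map (pullback.snd f f) hmax) ((genericPoint_spec X).specializes trivial)
  have hΓ : genericPoint ↥(pullback f f) ∈ Set.range c := by
    refine (Scheme.Pullback.range_map _ _ _ _ _ _ _ _ _).symm.subset ⟨?_, ?_⟩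
    · rw [mem_preimage, hr, mem_singleton_iff]; exact hfst
    · rw [mem_preimage, hr, mem_singleton_iff]; exact hsnd
  have hirr : IsIrreducible (Set.range c) := by
    refine ⟨⟨_, hΓ⟩, fun U W hU hW ⟨a, _, haU⟩ ⟨b, _, hbW⟩ => ⟨_, hΓ, ?_, ?_⟩⟩
    · exact ((genericPoint_spec ↥(pullback f f)).specializes (show a ∈ (⊤ : Set _) from trivial)).mem_open hU haU
    · exact ((genericPoint_spec ↥(pullback f f)).specializes (show b ∈ (⊤ : Set _) from trivial)).mem_open hW hbW
  haveI : IrreducibleSpace (Set.range c) := Subtype.irreducibleSpace hirr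
  haveI : IrreducibleSpace ↥(pullback (specMap k L) (specMap k L)) :=
    c.isEmbedding.toHomeomorph.irreducibleSpace_iff.mpr inferInstance
  exact separable_elements_of_irreducibleSpace α hα

theorem separable_elements_of_irreducible_prod [IrreducibleSpace X] [IrreducibleSpace ↥(pullback f f)]
    [Algebra k (X.residueField (genericPoint X))]
    (hψ : Spec.map (CommRingCat.ofHom (algebraMap k (X.residueField (genericPoint X)))) =
      X.fromSpecResidueField (genericPoint X) ≫ f)
    (α : X.residueField (genericPoint X)) (hα : IsSeparable k α) :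
    α ∈ Set.range (algebraMap k (X.residueField (genericPoint X))) :=
  separable_elements_of_irreducible_prod_aux f (X.residueField (genericPoint X))
    (X.fromSpecResidueField (genericPoint X)) hψ (X.range_fromSpecResidueField _) α hα

theorem geometricallyIrreducible_of_separable_elements [IrreducibleSpace X]
    [Algebra k (X.residueField (genericPoint X))]
    (hψ : Spec.map (CommRingCat.ofHom (algebraMap k (X.residueField (genericPoint X)))) =
      X.fromSpecResidueField (genericPoint X) ≫ f)
    (hsep : ∀ a : X.residueField (genericPoint X), IsSeparable k a →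
      a ∈ Set.range (algebraMap k (X.residueField (genericPoint X)))) :
    GeometricallyIrreducible f := by
  have h := isIrreducible_fibre f (AlgebraicClosure k) (genericPoint X) hψ hsep
  haveI : IrreducibleSpace ↥(FBase.bc f (AlgebraicClosure k)) := by
    rw [irreducibleSpace_def]
    have e : (⊤ : Set ↥(FBase.bc f (AlgebraicClosure k))) = closure (FBase.bcπ f (AlgebraicClosure k) ⁻¹' {genericPoint X}) := by
      rw [← (FBase.bcπ f (AlgebraicClosure k)).isOpenMap.preimage_closure_eq_closure_preimage
        (FBase.bcπ f (AlgebraicClosure k)).continuous, (genericPoint_spec X).def]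
      rfl
    rw [e]
    exact h.closure
  exact geometricallyIrreducible_of_sepClosed f (AlgebraicClosure k)

end Groth.L22.GeomConn
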