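import Groth.Agent.L22.GeomConn.Crit
import Groth.Agent.L22.FibreDim
import Groth.Agent.L22.Cyc.FieldExt

/-!
# Dimensions under extension of the ground field and products
-/

set_option autoImplicit false
universe u

open CategoryTheory CategoryTheory.Limits AlgebraicGeometry Set Topology

set_option backward.isDefEq.respectTransparency.types false

namespace Groth.L22.GeomConn

variable {k : Type u} [Field k] {X : Scheme.{u}} (f : X ⟶ Spec (CommRingCat.of k))

theorem exists_nat_dim_closure [LocallyOfFiniteType f] (x : X) :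
    ∃ n : ℕ, topologicalKrullDim (closure ({x} : Set X)) = (n : WithBot ℕ∞) := by
  letI : X.Over (Spec (CommRingCat.of k)) := ⟨f⟩
  haveI : LocallyOfFiniteType (X ↘ Spec (CommRingCat.of k)) := ‹LocallyOfFiniteType f›
  obtain ⟨n, hn, -⟩ := SchemeDim.exists_dim_closure_eq_trdeg k X x
  exact ⟨n, hn⟩

/-- The closure of a maximal point of `X_K` has the dimension of the closure of its image. -/
theorem dim_closure_isMaxPt [LocallyOfFiniteType f] (K : Type u) [Field K] [Algebra k K]
    {t : ↥(FBase.bc f K)} (ht : IsMaxPt t) :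
    topologicalKrullDim (closure ({t} : Set ↥(FBase.bc f K))) =
      topologicalKrullDim (closure ({FBase.bcπ f K t} : Set X)) := by
  obtain ⟨n, hn⟩ := exists_nat_dim_closure f (FBase.bcπ f K t)
  rw [hn]
  exact Cyc.dim_closure_baseChange k K f (CommRingCat.ofHom (algebraMap k K)) (FBase.bcStr f K)
    (FBase.bcπ f K) (IsPullback.of_hasPullback _ _) ht hn

variable {Y : Scheme.{u}} (g : Y ⟶ Spec (CommRingCat.of k))

theorem dim_closure_fibre_aux [LocallyOfFiniteType f] (L : Type u) [Field L] [Algebra k L]
    (ξ : Spec (CommRingCat.of L) ⟶ Y) [IsPreimmersion ξ] (hξ : specMap k L = ξ ≫ g) (y : Y)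
    (hr : Set.range ξ = {y}) {w : ↥(pullback f g)} (hw : IsMaxPt w) (hy : pullback.snd f g w = y) :
    topologicalKrullDim (closure ({w} : Set ↥(pullback f g)) ∩ pullback.snd f g ⁻¹' {y} : Set ↥(pullback f g)) =
      topologicalKrullDim (closure ({pullback.fst f g w} : Set X)) := by
  let c : FBase.bc f L ⟶ pullback f g :=
    pullback.map _ _ _ _ (𝟙 X) ξ (𝟙 _) (by simp) (by rw [Category.comp_id]; exact hξ)
  haveI : IsPreimmersion c := MorphismProperty.pullbackMap (P := @IsPreimmersion) inferInstance inferInstance
    (Category.id_comp f).symm hξ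
  have hrc : Set.range c = pullback.snd f g ⁻¹' {y} := by
    refine (Scheme.Pullback.range_map _ _ _ _ _ _ _ _ _).trans ?_
    rw [hr]
    exact Set.inter_eq_right.2 fun v _ => ⟨pullback.fst f g v, rfl⟩
  obtain ⟨w', rfl⟩ : w ∈ Set.range c := hrc.symm.subset hy
  have hmax : IsMaxPt w' := fun v hv => c.isEmbedding.injective (hw _ (hv.map c.continuous))
  have hp : pullback.fst f g (c w') = FBase.bcπ f L w' := by
    rw [← Scheme.Hom.comp_apply,
      show c ≫ pullback.fst f g = FBase.bcπ f L from (pullback.lift_fst _ _ _).trans (Category.comp_id _)]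
  rw [hp, ← dim_closure_isMaxPt f L hmax]
  refine SchemeDim.topologicalKrullDim_eq_of_isEmbedding
    (f := fun v : (closure ({w'} : Set ↥(FBase.bc f L))) => c v.1)
    (c.isEmbedding.comp IsEmbedding.subtypeVal) ?_
  have := c.isEmbedding.isInducing.closure_eq_preimage_closure_image {w'}
  rw [Set.image_singleton] at this
  rw [Set.range_comp', Subtype.range_coe, this, Set.image_preimage_eq_inter_range, hrc]

/-- A maximal point of a product lies over maximal points and dimensions add. -/
theorem dim_closure_prod [LocallyOfFiniteType f] [LocallyOfFiniteType g] {w : ↥(pullback f g)} (hw : IsMaxPt w) :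
    IsMaxPt (pullback.fst f g w) ∧ IsMaxPt (pullback.snd f g w) ∧
      topologicalKrullDim (closure ({w} : Set ↥(pullback f g))) =
        topologicalKrullDim (closure ({pullback.fst f g w} : Set X)) +
          topologicalKrullDim (closure ({pullback.snd f g w} : Set Y)) := by
  haveI := flat_toSpecField f
  haveI := flat_toSpecField g
  refine ⟨hw.map (pullback.fst f g), hw.map (pullback.snd f g), ?_⟩
  set y := pullback.snd f g w with hy
  obtain ⟨ψ, hψ⟩ : ∃ ψ, Spec.map ψ = Y.fromSpecResidueField y ≫ g := ⟨_, Spec.map_preimage _⟩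
  letI : Algebra k (Y.residueField y) := ψ.hom.toAlgebra
  have hfib := dim_closure_fibre_aux f g (Y.residueField y) (Y.fromSpecResidueField y) hψ y
    (Y.range_fromSpecResidueField y) hw hy.symm
  letI : Y.Over (Spec (CommRingCat.of k)) := ⟨g⟩
  letI : (pullback f g).Over (Spec (CommRingCat.of k)) := ⟨pullback.snd f g ≫ g⟩
  haveI : LocallyOfFiniteType (Y ↘ Spec (CommRingCat.of k)) := ‹LocallyOfFiniteType g›
  obtain ⟨a, b, ha, hb, hc⟩ := FibreDim.exists_dim_closure_add k (pullback.snd f g) rfl w
  rw [hc, ← hfib, hb, ha]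
  push_cast
  exact add_comm _ _

theorem dim_le_of_forall_maxPt (Z : Scheme.{u}) {E : WithBot ℕ∞}
    (h : ∀ t : Z, IsMaxPt t → topologicalKrullDim (closure ({t} : Set Z)) ≤ E) : topologicalKrullDim Z ≤ E := by
  rw [FibreDim.topologicalKrullDim_eq_iSup_closure]
  refine iSup_le fun x => ?_
  obtain ⟨t, ht, htx⟩ := exists_isMaxPt_specializes x
  exact (SchemeDim.topologicalKrullDim_mono (closure_minimal (singleton_subset_iff.2 htx.mem_closure) isClosed_closure)).trans (h t ht)

theorem dim_closure_le (Z : Scheme.{u}) (t : Z) : topologicalKrullDim (closure ({t} : Set Z)) ≤ topologicalKrullDim Z :=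
  topologicalKrullDim_subspace_le Z _

theorem add_le_of_forall {D D' E : WithBot ℕ∞}
    (h : ∀ r n : ℕ, (r : WithBot ℕ∞) ≤ D → (n : WithBot ℕ∞) ≤ D' → ((r + n : ℕ) : WithBot ℕ∞) ≤ E) :
    D + D' ≤ E := by
  induction D with
  | bot => simp
  | coe D =>
    induction D' with
    | bot => simp
    | coe D' =>
      induction D with
      | coe r => exact FibreDim.natCast_add_le_of_forall fun n hn => h r n le_rfl hn
      | top =>
        have hE : ∀ m : ℕ, (m : WithBot ℕ∞) ≤ E := fun m => by
          have := h m 0 (WithBot.coe_le_coe.2 le_top) (WithBot.coe_le_coe.2 zero_le)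
          simpa using this
        induction E with
        | bot => exact absurd (hE 0) (by simp)
        | coe E =>
          induction E with
          | top => exact le_of_le_of_eq le_top rfl
          | coe m =>
            have := hE (m + 1)
            norm_cast at this
            omega

end Groth.L22.GeomConn
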