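import Groth.Agent.L22.GeomConn.Main
import Groth.Agent.L02.GeomIrredField
import Mathlib.AlgebraicGeometry.Geometrically.Irreducible
import Mathlib.FieldTheory.SeparableClosure
import Mathlib.RingTheory.Artinian.Algebra

/-!
# Connected components are detected at finite separable levels
-/

set_option autoImplicit false
universe u

open CategoryTheory CategoryTheory.Limits AlgebraicGeometry Set TensorProduct

set_option backward.isDefEq.respectTransparency.types false

namespace Groth.L22.GeomConn

namespace Sys

variable {Z X ι : Type*} [TopologicalSpace Z] [TopologicalSpace X] [Preorder ι] (S : Sys Z X ι)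
variable [IsDirectedOrder ι] [Nonempty ι] [T0Space Z]

attribute [local instance] Sys.top

theorem Cinf_eq (z : Z) : S.Cinf z = connectedComponent z := by
  refine subset_antisymm ((S.isPreconnected_Cinf z).subset_connectedComponent
    (mem_iInter.2 fun i => mem_connectedComponent)) ?_
  exact subset_iInter fun i => image_subset_iff.1 ((S.hq i).image_connectedComponent_subset z)

theorem connectedSpace (h : ∀ i, ConnectedSpace (S.Y i)) : ConnectedSpace Z := by
  obtain ⟨a⟩ := (h (Classical.arbitrary ι)).toNonempty
  obtain ⟨z, -⟩ := S.hqs _ a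
  refine connectedSpace_iff_connectedComponent.2 ⟨z, ?_⟩
  rw [← S.Cinf_eq z]
  refine eq_univ_of_forall fun w => mem_iInter.2 fun i => ?_
  haveI := h i
  show S.q i w ∈ connectedComponent (S.q i z)
  rw [PreconnectedSpace.connectedComponent_eq_univ]; trivial

theorem exists_ne (z w : Z) (h : connectedComponent z ≠ connectedComponent w) :
    ∃ i, S.K z i ≠ S.K w i := by
  by_contra! hK
  apply h
  rw [← S.Cinf_eq, ← S.Cinf_eq, Cinf, Cinf]
  simp only [hK]

/-- If the limit has finitely many components, some stage sees all of them. -/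
theorem exists_injective [Finite (ConnectedComponents Z)] :
    ∃ i, ∀ z w, connectedComponent (S.q i z) = connectedComponent (S.q i w) →
      connectedComponent z = connectedComponent w := by
  classical
  haveI := Fintype.ofFinite (ConnectedComponents Z)
  have hsurj := ConnectedComponents.surjective_coe (α := Z)
  choose rep hrep using hsurj
  let P := {p : ConnectedComponents Z × ConnectedComponents Z // p.1 ≠ p.2}
  have hne : ∀ p : P, ∃ i, S.K (rep p.1.1) i ≠ S.K (rep p.1.2) i := fun p => S.exists_ne _ _ fun h => p.2 (by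
    rw [← hrep p.1.1, ← hrep p.1.2]; exact ConnectedComponents.coe_eq_coe.2 h)
  choose idx hidx using hne
  obtain ⟨i, hi⟩ := (Finset.univ.image idx).exists_le
  refine ⟨i, fun z w hzw => ?_⟩
  by_contra hne'
  have hp : ConnectedComponents.mk z ≠ ConnectedComponents.mk w := fun h => hne' (ConnectedComponents.coe_eq_coe.1 h)
  let p : P := ⟨(ConnectedComponents.mk z, ConnectedComponents.mk w), hp⟩
  have hle := hi (idx p) (Finset.mem_image_of_mem _ (Finset.mem_univ p))
  refine hidx p ?_
  have ez : connectedComponent (rep (ConnectedComponents.mk z)) = connectedComponent z :=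
    ConnectedComponents.coe_eq_coe.1 (hrep _)
  have ew : connectedComponent (rep (ConnectedComponents.mk w)) = connectedComponent w :=
    ConnectedComponents.coe_eq_coe.1 (hrep _)
  have e1 : ∀ (a b : Z) j, connectedComponent a = connectedComponent b → S.K a j = S.K b j := fun a b j h => by
    refine connectedComponent_eq ?_
    refine (S.hq j).image_connectedComponent_subset a ⟨b, ?_, rfl⟩
    rw [h]; exact mem_connectedComponent
  rw [e1 _ _ _ ez, e1 _ _ _ ew, ← S.t_K z hle, ← S.t_K w hle]
  show S.t hle '' S.K z i = S.t hle '' S.K w i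
  rw [show S.K z i = S.K w i from hzw]

include S in
theorem connectedComponent_eq_singleton_of_subsingleton [Subsingleton X] (z : Z) : connectedComponent z = {z} := by
  refine subset_antisymm (fun w hw => ?_) (singleton_subset_iff.2 mem_connectedComponent)
  by_contra hne
  obtain ⟨W, hW, hx⟩ := exists_isOpen_xor_mem (Ne.symm hne : z ≠ w)
  obtain ⟨i, hi⟩ : ∃ i, S.q i z ≠ S.q i w := by
    rcases hx with ⟨h1, h2⟩ | ⟨h1, h2⟩
    · obtain ⟨i, V, -, hwV, hV⟩ := S.basis W hW z h1
      exact ⟨i, fun h => h2 (hV (show S.q i w ∈ V from h ▸ hwV))⟩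
    · obtain ⟨i, V, -, hwV, hV⟩ := S.basis W hW w h1
      exact ⟨i, fun h => h2 (hV (show S.q i z ∈ V from h ▸ hwV))⟩
  haveI : T1Space (S.Y i) := ⟨fun a => by
    have e : closure ({a} : Set (S.Y i)) = {a} := subset_antisymm (fun b hb =>
      (S.hsp i a b (Subsingleton.elim _ _) (specializes_iff_mem_closure.2 hb)).symm) subset_closure
    exact e ▸ isClosed_closure⟩
  haveI : Finite (S.Y i) := Set.finite_univ_iff.1
    ((S.hfin i (S.p z)).subset fun _ _ => Subsingleton.elim _ _)
  haveI : DiscreteTopology (S.Y i) := inferInstance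
  refine hi (((isPreconnected_connectedComponent.image (S.q i) (S.hq i).continuousOn).subsingleton)
    ⟨z, mem_connectedComponent, rfl⟩ ⟨w, hw, rfl⟩)

end Sys

variable {k : Type u} [Field k] {X : Scheme.{u}} (f : X ⟶ Spec (CommRingCat.of k))

/-- Connectedness of preimages spreads from a separably closed algebraic extension to every extension. -/
theorem isConnected_preimage_tower (L K₀ K : Type u) [Field L] [Field K₀] [Field K]
    [Algebra k L] [Algebra k K₀] [Algebra k K] [Algebra L K₀] [Algebra L K]
    [IsScalarTower k L K₀] [IsScalarTower k L K] [Algebra.IsAlgebraic L K₀] [IsSepClosed K₀]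
    (s : Set ↥(FBase.bc f L)) (hs : IsClosed s) (h : _root_.IsConnected (bcMap f L K₀ ⁻¹' s)) :
    _root_.IsConnected (bcMap f L K ⁻¹' s) := by
  let Ω := AlgebraicClosure K
  let j : K₀ →ₐ[L] Ω := IsAlgClosed.lift
  letI : Algebra K₀ Ω := j.toRingHom.toAlgebra
  haveI : IsScalarTower L K₀ Ω := .of_algebraMap_eq fun x => (j.commutes x).symm
  haveI : IsScalarTower k L Ω := .of_algebraMap_eq fun x => by
    rw [IsScalarTower.algebraMap_apply k K Ω, IsScalarTower.algebraMap_apply L K Ω, ← IsScalarTower.algebraMap_apply k L K]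
  haveI : IsScalarTower k K₀ Ω := .of_algebraMap_eq fun x => by
    rw [IsScalarTower.algebraMap_apply k L K₀, ← IsScalarTower.algebraMap_apply L K₀ Ω, ← IsScalarTower.algebraMap_apply k L Ω]
  have := geometricallyConnected_bcMap f K₀ Ω
  have h' := ((bcMap f K₀ Ω).isConnected_preimage (Scheme.Hom.isOpenMap _) h
    (hs.preimage (bcMap f L K₀).continuous)).image (bcMap f K Ω) (Scheme.Hom.continuous _).continuousOn
  have comp : ∀ (M : Type u) [Field M] [Algebra k M] [Algebra L M] [Algebra M Ω]
      [IsScalarTower k L M] [IsScalarTower k M Ω] [IsScalarTower L M Ω] (z : ↥(FBase.bc f Ω)),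
      bcMap f L M (bcMap f M Ω z) = bcMap f L Ω z := by
    intro M _ _ _ _ _ _ _ z
    rw [← Scheme.Hom.comp_apply]
    refine congrArg (fun m : FBase.bc f Ω ⟶ FBase.bc f L => m.base z) ?_
    apply pullback.hom_ext
    · change (bcMap f M Ω ≫ bcMap f L M) ≫ FBase.bcπ f L = bcMap f L Ω ≫ FBase.bcπ f L
      simp
    · change (bcMap f M Ω ≫ bcMap f L M) ≫ FBase.bcStr f L = bcMap f L Ω ≫ FBase.bcStr f L
      simp only [Category.assoc, bcMap_str, bcMap_str_assoc]
      rw [← Spec.map_comp, ← CommRingCat.ofHom_comp, ← IsScalarTower.algebraMap_eq]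
  refine Eq.subst (motive := fun t : Set ↥(FBase.bc f K) => _root_.IsConnected t) ?_ h'
  symm
  refine Set.ext fun z => ⟨fun hz => ?_, ?_⟩
  · obtain ⟨z', rfl⟩ := (bcMap f K Ω).surjective z
    refine ⟨z', ?_, rfl⟩
    show bcMap f L K₀ _ ∈ s
    rw [comp K₀, ← comp K]
    exact hz
  · rintro ⟨z', hz', rfl⟩
    show bcMap f L K _ ∈ s
    rw [comp K, ← comp K₀]
    exact hz'

theorem geometricallyIrreducible_bcMap (L K : Type u) [Field L] [Field K] [Algebra k L] [Algebra k K]
    [Algebra L K] [IsScalarTower k L K] [IsSepClosed L] : GeometricallyIrreducible (bcMap f L K) := by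
  refine MorphismProperty.of_isPullback (isPullback_bcMap f L K).flip
    ⟨geometrically_iff_of_isClosedUnderIsomorphisms.mpr fun Ω _ y => ?_⟩
  obtain ⟨φ, rfl⟩ := Spec.map_surjective y
  algebraize [φ.hom]
  have hp : (nilradical (K ⊗[L] Ω)).IsPrime := Groth.L02.SepClosedTensor.isPrime_nilradical_tensor
    (by rw [nilradical_eq_zero]; exact Ideal.isPrime_bot) (by rw [nilradical_eq_zero]; exact Ideal.isPrime_bot)
  have : IrreducibleSpace ↥(Spec (CommRingCat.of (K ⊗[L] Ω))) := PrimeSpectrum.irreducibleSpace_iff_isPrime_nilradical.2 hp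
  exact (pullbackSpecIso L K Ω).inv.homeomorph.irreducibleSpace_iff.mp inferInstance

/-- Irreducibility of preimages spreads from a separably closed algebraic extension to every extension. -/
theorem isIrreducible_preimage_tower (L K₀ K : Type u) [Field L] [Field K₀] [Field K]
    [Algebra k L] [Algebra k K₀] [Algebra k K] [Algebra L K₀] [Algebra L K]
    [IsScalarTower k L K₀] [IsScalarTower k L K] [Algebra.IsAlgebraic L K₀] [IsSepClosed K₀]
    (s : Set ↥(FBase.bc f L)) (h : IsIrreducible (bcMap f L K₀ ⁻¹' s)) :
    IsIrreducible (bcMap f L K ⁻¹' s) := by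
  let Ω := AlgebraicClosure K
  let j : K₀ →ₐ[L] Ω := IsAlgClosed.lift
  letI : Algebra K₀ Ω := j.toRingHom.toAlgebra
  haveI : IsScalarTower L K₀ Ω := .of_algebraMap_eq fun x => (j.commutes x).symm
  haveI : IsScalarTower k L Ω := .of_algebraMap_eq fun x => by
    rw [IsScalarTower.algebraMap_apply k K Ω, IsScalarTower.algebraMap_apply L K Ω, ← IsScalarTower.algebraMap_apply k L K]
  haveI : IsScalarTower k K₀ Ω := .of_algebraMap_eq fun x => by
    rw [IsScalarTower.algebraMap_apply k L K₀, ← IsScalarTower.algebraMap_apply L K₀ Ω, ← IsScalarTower.algebraMap_apply k L Ω]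
  have := geometricallyIrreducible_bcMap f K₀ Ω
  have h' := ((bcMap f K₀ Ω).isIrreducible_preimage (Scheme.Hom.isOpenMap _) h).image (bcMap f K Ω) (Scheme.Hom.continuous _).continuousOn
  have comp : ∀ (M : Type u) [Field M] [Algebra k M] [Algebra L M] [Algebra M Ω]
      [IsScalarTower k L M] [IsScalarTower k M Ω] [IsScalarTower L M Ω] (z : ↥(FBase.bc f Ω)),
      bcMap f L M (bcMap f M Ω z) = bcMap f L Ω z := by
    intro M _ _ _ _ _ _ _ z
    rw [← Scheme.Hom.comp_apply]
    refine congrArg (fun m : FBase.bc f Ω ⟶ FBase.bc f L => m.base z) ?_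
    apply pullback.hom_ext
    · change (bcMap f M Ω ≫ bcMap f L M) ≫ FBase.bcπ f L = bcMap f L Ω ≫ FBase.bcπ f L
      simp
    · change (bcMap f M Ω ≫ bcMap f L M) ≫ FBase.bcStr f L = bcMap f L Ω ≫ FBase.bcStr f L
      simp only [Category.assoc, bcMap_str, bcMap_str_assoc]
      rw [← Spec.map_comp, ← CommRingCat.ofHom_comp, ← IsScalarTower.algebraMap_eq]
  refine Eq.subst (motive := fun t : Set ↥(FBase.bc f K) => IsIrreducible t) ?_ h'
  symm
  refine Set.ext fun z => ⟨fun hz => ?_, ?_⟩
  · obtain ⟨z', rfl⟩ := (bcMap f K Ω).surjective z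
    refine ⟨z', ?_, rfl⟩
    show bcMap f L K₀ _ ∈ s
    rw [comp K₀, ← comp K]
    exact hz
  · rintro ⟨z', hz', rfl⟩
    show bcMap f L K _ ∈ s
    rw [comp K, ← comp K₀]
    exact hz'

/-- The fibre of `X_k̄` over a point with finite separable algebraic closure of `k` is finite. -/
theorem finite_fibre (x : X) [Algebra k (X.residueField x)]
    (hψ : Spec.map (CommRingCat.ofHom (algebraMap k (X.residueField x))) = X.fromSpecResidueField x ≫ f)
    [hfd : FiniteDimensional k (separableClosure k (X.residueField x))] :
    (FBase.bcπ f (AlgebraicClosure k) ⁻¹' {x}).Finite := by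
  classical
  have hart : ∀ (T : Type u) [CommRing T] [Algebra (AlgebraicClosure k) T] [Module.Finite (AlgebraicClosure k) T],
      Finite (PrimeSpectrum T) := fun T _ _ _ => by
    haveI : IsArtinianRing T := IsArtinianRing.of_finite (AlgebraicClosure k) T
    infer_instance
  let E := separableClosure k (X.residueField x)
  let kb := AlgebraicClosure k
  let f' := Groth.L22.GeomConn.specMap k (X.residueField x)
  have hw : f' = X.fromSpecResidueField x ≫ f := hψ
  let g := Groth.L22.GeomConn.specMap k E
  let e := Groth.L22.GeomConn.specMap E (X.residueField x)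
  have hge : e ≫ g = f' := Groth.L22.GeomConn.specMap_comp E (X.residueField x)
  let m := Spec.map (CommRingCat.ofHom (algebraMap k kb))
  have hgc : GeometricallyConnected e := by
    refine ⟨geometrically_iff_of_isClosedUnderIsomorphisms.mpr fun F _ y => ?_⟩
    obtain ⟨θ, rfl⟩ := Spec.map_surjective y
    algebraize [θ.hom]
    have hsep : ∀ a : X.residueField x, IsSeparable E a → a ∈ Set.range (algebraMap E (X.residueField x)) :=
      fun a ha => by
        haveI : Algebra.IsSeparable k E := separableClosure.isSeparable k (X.residueField x)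
        exact ⟨⟨a, mem_separableClosure_iff.2 (IsSeparable.of_algebra_isSeparable_of_isSeparable k ha)⟩, rfl⟩
    have := Groth.L02.GeomIrredField.irreducible_of_separable_elements hsep F
    have hc : ConnectedSpace (PrimeSpectrum (F ⊗[E] X.residueField x)) := inferInstance
    have hc' : ConnectedSpace (PrimeSpectrum (X.residueField x ⊗[E] F)) :=
      (PrimeSpectrum.homeomorphOfRingEquiv (Algebra.TensorProduct.comm E F (X.residueField x)).toRingEquiv).connectedSpace_iff.mp hc
    haveI : ConnectedSpace ↥(Spec (CommRingCat.of (X.residueField x ⊗[E] F))) := hc'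
    exact (pullbackSpecIso E (X.residueField x) F).inv.homeomorph.surjective.connectedSpace
      (pullbackSpecIso E (X.residueField x) F).inv.continuous
  let b : FBase.bc f' kb ⟶ FBase.bc g kb :=
    Limits.pullback.map _ _ _ _ e (𝟙 _) (𝟙 _) (by rw [Category.comp_id, hge]) (by rw [Category.comp_id, Category.id_comp])
  have hb : IsPullback b (FBase.bcπ f' kb) (FBase.bcπ g kb) e := by
    refine IsPullback.of_right (h₁₂ := FBase.bcStr g kb) (v₁₃ := m) (h₂₂ := g) ?_ (Limits.pullback.lift_fst _ _ _)
      (IsPullback.of_hasPullback g m).flip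
    rw [show b ≫ FBase.bcStr g kb = FBase.bcStr f' kb from (Limits.pullback.lift_snd _ _ _).trans (Category.comp_id _), hge]
    exact (IsPullback.of_hasPullback f' m).flip
  haveI : GeometricallyConnected b := MorphismProperty.of_isPullback hb.flip hgc
  haveI : UniversallyOpen e := inferInstance
  haveI : UniversallyOpen b := MorphismProperty.of_isPullback hb.flip ‹UniversallyOpen e›
  haveI : Finite ↥(FBase.bc g kb) := by
    haveI := hart (kb ⊗[k] E)
    let eq : ↥(FBase.bc g kb) ≃ PrimeSpectrum (kb ⊗[k] E) :=
      (pullbackSpecIso k E kb).hom.homeomorph.toEquiv.trans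
        (PrimeSpectrum.homeomorphOfRingEquiv (Algebra.TensorProduct.comm k E kb).toRingEquiv).toEquiv
    exact Finite.of_equiv _ eq.symm
  have hbb := Groth.L22.GeomConn.bijective_connectedComponentsMap b
  haveI : Finite (_root_.ConnectedComponents ↥(FBase.bc g kb)) := .of_surjective _ _root_.ConnectedComponents.surjective_coe
  haveI : Finite (_root_.ConnectedComponents ↥(FBase.bc f' kb)) := Finite.of_injective _ hbb.1
  haveI : Subsingleton ↥(Spec (CommRingCat.of (X.residueField x))) := inferInstanceAs (Subsingleton (PrimeSpectrum (X.residueField x)))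
  haveI : Finite ↥(FBase.bc f' kb) := Finite.of_injective (ConnectedComponents.mk (α := ↥(FBase.bc f' kb))) fun a b h => by
    have h' := ConnectedComponents.coe_eq_coe.1 h
    rw [Sys.connectedComponent_eq_singleton_of_subsingleton (sys f' kb) a,
      Sys.connectedComponent_eq_singleton_of_subsingleton (sys f' kb) b] at h'
    exact singleton_eq_singleton_iff.1 h'
  let c : FBase.bc f' kb ⟶ FBase.bc f kb :=
    Limits.pullback.map _ _ _ _ (X.fromSpecResidueField x) (𝟙 _) (𝟙 _)
      (by rw [Category.comp_id, hw]) (by rw [Category.comp_id, Category.id_comp])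
  refine (Set.finite_range c).subset fun v hv => ?_
  exact (Scheme.Pullback.range_map _ _ _ _ _ _ _ _ _).symm.subset
    ⟨(Scheme.range_fromSpecResidueField x).symm.subset hv, ⟨(FBase.bcStr f kb).base v, rfl⟩⟩

/-- Finitely many components of `X_k̄` meet the fibre over a point with finite separable algebraic closure of `k`. -/
theorem finite_components_over_point (x : X) [Algebra k (X.residueField x)]
    (hψ : Spec.map (CommRingCat.ofHom (algebraMap k (X.residueField x))) = X.fromSpecResidueField x ≫ f)
    [hfd : FiniteDimensional k (separableClosure k (X.residueField x))] :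
    (ConnectedComponents.mk '' (FBase.bcπ f (AlgebraicClosure k) ⁻¹' {x})).Finite :=
  (finite_fibre f x hψ).image _

end Groth.L22.GeomConn
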