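import Groth.Agent.L22.GeomConn.TopLim
import Groth.Agent.L02.SepClosedTensor
import Groth.Prelude.Def_FDesc
import Mathlib.AlgebraicGeometry.Geometrically.Connected
import Mathlib.AlgebraicGeometry.Morphisms.Integral
import Mathlib.AlgebraicGeometry.Morphisms.QuasiFinite
import Mathlib.AlgebraicGeometry.PullbackCarrier
import Mathlib.FieldTheory.IsAlgClosed.AlgebraicClosure
import Mathlib.LinearAlgebra.TensorProduct.Finiteness

/-!
# Connected components and extensions of the base field
-/

set_option autoImplicit false
universe u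

open CategoryTheory CategoryTheory.Limits AlgebraicGeometry TensorProduct

set_option backward.isDefEq.respectTransparency.types false

namespace Groth.L22.GeomConn

variable {k : Type u} [Field k]

/-- The map of spectra of a field extension. -/
noncomputable abbrev specMap (L K : Type u) [Field L] [Field K] [Algebra L K] :
    Spec (CommRingCat.of K) ⟶ Spec (CommRingCat.of L) :=
  Spec.map (CommRingCat.ofHom (algebraMap L K))

theorem specMap_comp (L K : Type u) [Field L] [Field K] [Algebra k L] [Algebra k K] [Algebra L K]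
    [IsScalarTower k L K] : specMap L K ≫ specMap k L = specMap k K := by
  rw [← Spec.map_comp, ← CommRingCat.ofHom_comp, ← IsScalarTower.algebraMap_eq]

variable {X : Scheme.{u}} (f : X ⟶ Spec (CommRingCat.of k))

/-- Transition map between base changes to fields. -/
noncomputable def bcMap (L K : Type u) [Field L] [Field K] [Algebra k L] [Algebra k K] [Algebra L K]
    [IsScalarTower k L K] : FBase.bc f K ⟶ FBase.bc f L :=
  pullback.lift (FBase.bcπ f K) (FBase.bcStr f K ≫ specMap L K)
    (by rw [Category.assoc, specMap_comp]; exact pullback.condition)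

@[reassoc (attr := simp)]
theorem bcMap_π (L K : Type u) [Field L] [Field K] [Algebra k L] [Algebra k K] [Algebra L K]
    [IsScalarTower k L K] : bcMap f L K ≫ FBase.bcπ f L = FBase.bcπ f K :=
  pullback.lift_fst _ _ _

@[reassoc (attr := simp)]
theorem bcMap_str (L K : Type u) [Field L] [Field K] [Algebra k L] [Algebra k K] [Algebra L K]
    [IsScalarTower k L K] : bcMap f L K ≫ FBase.bcStr f L = FBase.bcStr f K ≫ specMap L K :=
  pullback.lift_snd _ _ _

theorem bcMap_π_apply (L K : Type u) [Field L] [Field K] [Algebra k L] [Algebra k K] [Algebra L K]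
    [IsScalarTower k L K] (z : ↥(FBase.bc f K)) : FBase.bcπ f L (bcMap f L K z) = FBase.bcπ f K z := by
  rw [← Scheme.Hom.comp_apply, bcMap_π]

theorem isPullback_bcMap (L K : Type u) [Field L] [Field K] [Algebra k L] [Algebra k K] [Algebra L K]
    [IsScalarTower k L K] :
    IsPullback (bcMap f L K) (FBase.bcStr f K) (FBase.bcStr f L) (specMap L K) := by
  refine IsPullback.of_right (h₁₂ := FBase.bcπ f L) (h₂₂ := specMap k L) (v₁₃ := f) ?_ (bcMap_str f L K)
    (IsPullback.of_hasPullback f (specMap k L)).flip.flip.flip.flip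
  rw [bcMap_π, specMap_comp]
  exact IsPullback.of_hasPullback _ _

theorem surjective_specMap (L K : Type u) [Field L] [Field K] [Algebra L K] : Surjective (specMap L K) :=
  ⟨fun _ => ⟨default, Subsingleton.elim (α := Spec (CommRingCat.of L)) _ _⟩⟩

instance surjective_bcπ (K : Type u) [Field K] [Algebra k K] : Surjective (FBase.bcπ f K) := by
  have := surjective_specMap k K
  exact MorphismProperty.pullback_fst _ _ this

instance universallyOpen_bcπ (K : Type u) [Field K] [Algebra k K] : UniversallyOpen (FBase.bcπ f K) :=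
  MorphismProperty.pullback_fst _ _ (inferInstanceAs (UniversallyOpen (specMap k K)))

instance surjective_bcMap (L K : Type u) [Field L] [Field K] [Algebra k L] [Algebra k K] [Algebra L K]
    [IsScalarTower k L K] : Surjective (bcMap f L K) :=
  MorphismProperty.of_isPullback (isPullback_bcMap f L K).flip (surjective_specMap L K)

instance universallyOpen_bcMap (L K : Type u) [Field L] [Field K] [Algebra k L] [Algebra k K] [Algebra L K]
    [IsScalarTower k L K] : UniversallyOpen (bcMap f L K) :=
  MorphismProperty.of_isPullback (isPullback_bcMap f L K).flip (inferInstanceAs (UniversallyOpen (specMap L K)))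

theorem isIntegralHom_specMap (L K : Type u) [Field L] [Field K] [Algebra L K] [Algebra.IsAlgebraic L K] :
    IsIntegralHom (specMap L K) := by
  rw [IsIntegralHom.SpecMap_iff]
  exact algebraMap_isIntegral_iff.mpr inferInstance

theorem isIntegralHom_bcπ (K : Type u) [Field K] [Algebra k K] [Algebra.IsAlgebraic k K] :
    IsIntegralHom (FBase.bcπ f K) := by
  have := isIntegralHom_specMap k K
  exact MorphismProperty.pullback_fst _ _ this

theorem isIntegralHom_bcMap (L K : Type u) [Field L] [Field K] [Algebra k L] [Algebra k K] [Algebra L K]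
    [IsScalarTower k L K] [Algebra.IsAlgebraic L K] : IsIntegralHom (bcMap f L K) :=
  MorphismProperty.of_isPullback (isPullback_bcMap f L K).flip (isIntegralHom_specMap L K)

theorem isFinite_bcπ (K : Type u) [Field K] [Algebra k K] [FiniteDimensional k K] :
    IsFinite (FBase.bcπ f K) := by
  have : IsFinite (specMap k K) := by
    rw [IsFinite.SpecMap_iff]
    exact RingHom.finite_algebraMap.mpr inferInstance
  exact MorphismProperty.pullback_fst _ _ this

theorem basis_finite_level (K : Type u) [Field K] [Algebra k K] [Algebra.IsAlgebraic k K]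
    (W : Set ↥(FBase.bc f K)) (hW : IsOpen W) (w : ↥(FBase.bc f K)) (hw : w ∈ W) :
    ∃ L : {L : IntermediateField k K // FiniteDimensional k L}, ∃ V : Set ↥(FBase.bc f L.1),
      IsOpen V ∧ bcMap f L.1 K w ∈ V ∧ bcMap f L.1 K ⁻¹' V ⊆ W := by
  classical
  obtain ⟨i, a, ha⟩ := X.affineCover.exists_eq (FBase.bcπ f K w)
  let R := X.affineCover.X i
  obtain ⟨A, hA⟩ : ∃ A : CommRingCat.{u}, Nonempty (R ≅ Spec A) :=
    ⟨Γ(R, ⊤), ⟨R.isoSpec⟩⟩
  let j : Spec A ⟶ X := hA.some.inv ≫ X.affineCover.f i
  obtain ⟨φ, hφ⟩ : ∃ φ, Spec.map φ = j ≫ f := ⟨_, Spec.map_preimage _⟩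
  algebraize [φ.hom]
  have hφ' : Spec.map (CommRingCat.ofHom (algebraMap k A)) = j ≫ f := hφ
  let em : ∀ (L : Type u) [Field L] [Algebra k L], Spec (CommRingCat.of (A ⊗[k] L)) ⟶ FBase.bc f L :=
    fun L _ _ => (pullbackSpecIso k A L).inv ≫
      pullback.map (Spec.map (CommRingCat.ofHom (algebraMap k A))) (specMap k L) f (specMap k L) j (𝟙 _) (𝟙 _)
        (by rw [Category.comp_id, hφ']) (by rw [Category.comp_id, Category.id_comp])
  have emπ : ∀ (L : Type u) [Field L] [Algebra k L],
      em L ≫ FBase.bcπ f L =
        Spec.map (CommRingCat.ofHom (Algebra.TensorProduct.includeLeftRingHom : A →+* A ⊗[k] L)) ≫ j := by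
    intro L _ _
    exact (Category.assoc _ _ _).trans ((congrArg ((pullbackSpecIso k A L).inv ≫ ·)
      (pullback.lift_fst _ _ _)).trans ((Category.assoc _ _ _).symm.trans
      (congrArg (· ≫ j) (pullbackSpecIso_inv_fst k A L))))
  have emstr : ∀ (L : Type u) [Field L] [Algebra k L],
      em L ≫ FBase.bcStr f L =
        Spec.map (CommRingCat.ofHom (Algebra.TensorProduct.includeRight : L →ₐ[k] A ⊗[k] L).toRingHom) := by
    intro L _ _
    exact (Category.assoc _ _ _).trans ((congrArg ((pullbackSpecIso k A L).inv ≫ ·)
      ((pullback.lift_snd _ _ _).trans (Category.comp_id _))).trans (pullbackSpecIso_inv_snd k A L))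
  have emrange : Set.range (em K) = FBase.bcπ f K ⁻¹' Set.range j := by
    have e : Set.range (em K) = Set.range (pullback.map (Spec.map (CommRingCat.ofHom (algebraMap k A))) (specMap k K) f (specMap k K) j (𝟙 _) (𝟙 _)
        (by rw [Category.comp_id, hφ']) (by rw [Category.comp_id, Category.id_comp])) := by
      rw [Scheme.Hom.comp_base, TopCat.coe_comp]
      exact (pullbackSpecIso k A K).inv.homeomorph.surjective.range_comp _
    rw [e, Scheme.Pullback.range_map]
    simp [FBase.bcπ]
    rfl
  obtain ⟨w₀, rfl⟩ : w ∈ Set.range (em K) := by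
    rw [emrange]
    refine ⟨hA.some.hom a, ?_⟩
    show (hA.some.hom ≫ hA.some.inv ≫ X.affineCover.f i) a = _
    rw [Iso.hom_inv_id_assoc]
    exact ha
  obtain ⟨_, ⟨s, rfl⟩, hws, hsW⟩ := PrimeSpectrum.isTopologicalBasis_basic_opens.exists_subset_of_mem_open
    (show w₀ ∈ em K ⁻¹' W from hw) (hW.preimage (em K).continuous)
  obtain ⟨T, hT⟩ := TensorProduct.exists_finset s
  let L : IntermediateField k K := IntermediateField.adjoin k ↑(T.image Prod.snd)
  have hL : FiniteDimensional k L :=
    IntermediateField.finiteDimensional_adjoin fun x _ => Algebra.IsIntegral.isIntegral x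
  refine ⟨⟨L, hL⟩, ?_⟩
  let θ : A ⊗[k] L →ₐ[k] A ⊗[k] K := Algebra.TensorProduct.map (AlgHom.id k A) L.val
  obtain ⟨s', hs'⟩ : ∃ s', θ s' = s := by
    refine ⟨∑ p ∈ T.attach, p.1.1 ⊗ₜ ⟨p.1.2, IntermediateField.subset_adjoin k _
      (Finset.mem_coe.2 (Finset.mem_image_of_mem _ p.2))⟩, ?_⟩
    rw [hT, map_sum, ← Finset.sum_attach T]
    refine Finset.sum_congr rfl fun p _ => ?_
    simp [θ]
  have hsq : em K ≫ bcMap f L K = Spec.map (CommRingCat.ofHom θ.toRingHom) ≫ em L := by
    apply pullback.hom_ext
    · change (em K ≫ bcMap f L K) ≫ FBase.bcπ f L = (_ ≫ em L) ≫ FBase.bcπ f L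
      simp only [Category.assoc, bcMap_π, emπ]
      rw [← Spec.map_comp_assoc, ← CommRingCat.ofHom_comp]
      congr 3
    · change (em K ≫ bcMap f L K) ≫ FBase.bcStr f L = (_ ≫ em L) ≫ FBase.bcStr f L
      simp only [Category.assoc, bcMap_str, emstr]
      rw [← Category.assoc, emstr, ← Spec.map_comp, ← Spec.map_comp]
      congr 1
  have : IsOpenImmersion j := inferInstanceAs (IsOpenImmersion (_ ≫ _))
  have hoi : IsOpenImmersion (em L) :=
    MorphismProperty.comp_mem _ _ _ (inferInstanceAs (IsOpenImmersion (pullbackSpecIso k A L).inv))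
      (inferInstanceAs (IsOpenImmersion (pullback.map _ _ _ _ j (𝟙 _) (𝟙 _) _ _)))
  refine ⟨em L '' ((PrimeSpectrum.basicOpen s' : TopologicalSpace.Opens (PrimeSpectrum (A ⊗[k] L))) : Set (PrimeSpectrum (A ⊗[k] L))), (em L).isOpenEmbedding.isOpenMap _ (PrimeSpectrum.basicOpen s').isOpen,
    ⟨PrimeSpectrum.comap θ.toRingHom w₀, ?_, ?_⟩, ?_⟩
  · show s' ∉ Ideal.comap θ.toRingHom w₀.asIdeal
    rw [Ideal.mem_comap]
    exact (show θ s' = s from hs') ▸ hws
  · exact (congrArg (fun m => m.base w₀) hsq).symm
  · rintro v ⟨b, hb, hbv⟩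
    obtain ⟨v₀, rfl⟩ : v ∈ Set.range (em K) := by
      rw [emrange, Set.mem_preimage, ← bcMap_π_apply f L K, ← hbv, ← Scheme.Hom.comp_apply, emπ]
      exact ⟨_, rfl⟩
    have hb' : b = PrimeSpectrum.comap θ.toRingHom v₀ :=
      (em L).isOpenEmbedding.injective (hbv.trans (congrArg (fun m => m.base v₀) hsq))
    refine hsW ?_
    subst hb'
    show s ∉ v₀.asIdeal
    rw [← hs']
    exact hb

/-- The inverse system of finite levels below an algebraic extension. -/
noncomputable def sys (K : Type u) [Field K] [Algebra k K] [Algebra.IsAlgebraic k K] :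
    Sys ↥(FBase.bc f K) ↥X {L : IntermediateField k K // FiniteDimensional k L} where
  Y L := ↥(FBase.bc f L.1)
  top _ := inferInstance
  p := FBase.bcπ f K
  hp := (FBase.bcπ f K).continuous
  hpo := (FBase.bcπ f K).isOpenMap
  hpc := have := isIntegralHom_bcπ f K; (FBase.bcπ f K).isClosedMap
  hpk x := by
    have := isIntegralHom_bcπ f K
    rw [← Scheme.Hom.range_fiberι]
    exact isCompact_range ((FBase.bcπ f K).fiberι x).continuous
  q L := bcMap f L.1 K
  r L := FBase.bcπ f L.1
  t {L M} h := letI := (IntermediateField.inclusion h).toRingHom.toAlgebra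
    haveI : IsScalarTower k L.1 M.1 := .of_algebraMap_eq fun _ => rfl
    bcMap f L.1 M.1
  hq L := (bcMap f L.1 K).continuous
  hqo L := (bcMap f L.1 K).isOpenMap
  hqc L := have := isIntegralHom_bcMap f L.1 K; (bcMap f L.1 K).isClosedMap
  hqs L := (bcMap f L.1 K).surjective
  hr L := (FBase.bcπ f L.1).continuous
  hrq L z := bcMap_π_apply f L.1 K z
  hfin L x := by
    have := L.2
    have := isFinite_bcπ f L.1
    exact (FBase.bcπ f L.1).finite_preimage_singleton x
  hsp L a b hab h := by
    have := L.2
    have := isFinite_bcπ f L.1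
    have hd := (FBase.bcπ f L.1).isDiscrete_preimage_singleton (FBase.bcπ f L.1 a)
    have := isDiscrete_iff_discreteTopology.1 hd
    have h' : (⟨a, rfl⟩ : ↥(FBase.bcπ f L.1 ⁻¹' {FBase.bcπ f L.1 a})) ⤳ ⟨b, hab.symm⟩ :=
      (subtype_specializes_iff _ _).2 h
    exact congrArg Subtype.val h'.eq
  ht {L M} h := letI := (IntermediateField.inclusion h).toRingHom.toAlgebra
    haveI : IsScalarTower k L.1 M.1 := .of_algebraMap_eq fun _ => rfl
    (bcMap f L.1 M.1).continuous
  htq {L M} h z := by
    let := (IntermediateField.inclusion h).toRingHom.toAlgebra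
    have : IsScalarTower k L.1 M.1 := .of_algebraMap_eq fun _ => rfl
    rw [← Scheme.Hom.comp_apply]
    refine congrArg (fun m : FBase.bc f K ⟶ FBase.bc f L.1 => m.base z) ?_
    apply pullback.hom_ext
    · change (bcMap f M.1 K ≫ bcMap f L.1 M.1) ≫ FBase.bcπ f L.1 = bcMap f L.1 K ≫ FBase.bcπ f L.1
      simp
    · change (bcMap f M.1 K ≫ bcMap f L.1 M.1) ≫ FBase.bcStr f L.1 = bcMap f L.1 K ≫ FBase.bcStr f L.1
      simp only [Category.assoc, bcMap_str, bcMap_str_assoc]
      rw [← Spec.map_comp, ← CommRingCat.ofHom_comp]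
      rfl
  basis := basis_finite_level f K

instance directed (K : Type u) [Field K] [Algebra k K] :
    IsDirectedOrder {L : IntermediateField k K // FiniteDimensional k L} :=
  ⟨fun L M => ⟨⟨L.1 ⊔ M.1, have := L.2; have := M.2; IntermediateField.finiteDimensional_sup L.1 M.1⟩,
    le_sup_left (a := L.1), le_sup_right (b := M.1)⟩⟩

instance nonempty_finiteLevels (K : Type u) [Field K] [Algebra k K] :
    Nonempty {L : IntermediateField k K // FiniteDimensional k L} :=
  ⟨⟨⊥, inferInstance⟩⟩

theorem image_component_algebraic (K : Type u) [Field K] [Algebra k K] [Algebra.IsAlgebraic k K]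
    (z : ↥(FBase.bc f K)) :
    FBase.bcπ f K '' connectedComponent z = connectedComponent (FBase.bcπ f K z) :=
  (sys f K).image_component z

theorem geometricallyConnected_specMap (K : Type u) [Field K] [Algebra k K] [IsSepClosed k] :
    GeometricallyConnected (specMap k K) := by
  refine ⟨geometrically_iff_of_isClosedUnderIsomorphisms.mpr fun Ω _ y => ?_⟩
  obtain ⟨φ, rfl⟩ := Spec.map_surjective y
  algebraize [φ.hom]
  have hp : (nilradical (K ⊗[k] Ω)).IsPrime := Groth.L02.SepClosedTensor.isPrime_nilradical_tensor
    (by rw [nilradical_eq_zero]; exact Ideal.isPrime_bot) (by rw [nilradical_eq_zero]; exact Ideal.isPrime_bot)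
  have : IrreducibleSpace (PrimeSpectrum (K ⊗[k] Ω)) := PrimeSpectrum.irreducibleSpace_iff_isPrime_nilradical.2 hp
  have : ConnectedSpace ↥(Spec (CommRingCat.of (K ⊗[k] Ω))) := inferInstanceAs (ConnectedSpace (PrimeSpectrum (K ⊗[k] Ω)))
  exact (pullbackSpecIso k K Ω).inv.homeomorph.surjective.connectedSpace (pullbackSpecIso k K Ω).inv.continuous

theorem geometricallyConnected_bcπ (K : Type u) [Field K] [Algebra k K] [IsSepClosed k] :
    GeometricallyConnected (FBase.bcπ f K) :=
  MorphismProperty.pullback_fst _ _ (geometricallyConnected_specMap K)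

theorem geometricallyConnected_bcMap (L K : Type u) [Field L] [Field K] [Algebra k L] [Algebra k K]
    [Algebra L K] [IsScalarTower k L K] [IsSepClosed L] : GeometricallyConnected (bcMap f L K) :=
  MorphismProperty.of_isPullback (isPullback_bcMap f L K).flip (geometricallyConnected_specMap K)

/-- For an open surjection with connected fibres, components go onto components. -/
theorem preimage_component {Y Z : Scheme.{u}} (g : Y ⟶ Z) [GeometricallyConnected g] [UniversallyOpen g]
    (y : Y) : g ⁻¹' connectedComponent (g y) = connectedComponent y :=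
  subset_antisymm
    ((g.isConnected_preimage g.isOpenMap isConnected_connectedComponent isClosed_connectedComponent).isPreconnected.subset_connectedComponent
      mem_connectedComponent)
    (Set.image_subset_iff.1 (g.continuous.image_connectedComponent_subset y))

theorem exists_closure (K : Type u) [Field K] [Algebra k K] :
    ∃ (_ : Algebra (AlgebraicClosure k) (AlgebraicClosure K)),
      IsScalarTower k (AlgebraicClosure k) (AlgebraicClosure K) := by
  let j : AlgebraicClosure k →ₐ[k] AlgebraicClosure K := IsAlgClosed.lift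
  exact ⟨j.toRingHom.toAlgebra, @IsScalarTower.of_algebraMap_eq k (AlgebraicClosure k) (AlgebraicClosure K)
    _ _ _ _ j.toRingHom.toAlgebra _ fun x => (j.commutes x).symm⟩

/-- The image of a connected component of `X_K` is a connected component of `X`. -/
theorem image_component (K : Type u) [Field K] [Algebra k K] (z : ↥(FBase.bc f K)) :
    FBase.bcπ f K '' connectedComponent z = connectedComponent (FBase.bcπ f K z) := by
  refine subset_antisymm ((FBase.bcπ f K).continuous.image_connectedComponent_subset z) ?_
  obtain ⟨_, _⟩ := exists_closure (k := k) K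
  obtain ⟨z', rfl⟩ := (bcMap f K (AlgebraicClosure K)).surjective z
  have := geometricallyConnected_bcMap f (AlgebraicClosure k) (AlgebraicClosure K)
  rw [bcMap_π_apply, ← bcMap_π_apply f (AlgebraicClosure k) (AlgebraicClosure K) z',
    ← image_component_algebraic f (AlgebraicClosure k)]
  rintro _ ⟨b, hb, rfl⟩
  obtain ⟨a, rfl⟩ := (bcMap f (AlgebraicClosure k) (AlgebraicClosure K)).surjective b
  have ha : a ∈ connectedComponent z' := (preimage_component _ z').subset hb
  exact ⟨_, (bcMap f K (AlgebraicClosure K)).continuous.image_connectedComponent_subset z' ⟨a, ha, rfl⟩,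
    by rw [bcMap_π_apply, bcMap_π_apply]⟩

/-- If the preimage of a component in `X_k̄` is connected then so it is in every `X_K`. -/
theorem isConnected_preimage_of_algClosure (x : X)
    (h : _root_.IsConnected (FBase.bcπ f (AlgebraicClosure k) ⁻¹' connectedComponent x))
    (K : Type u) [Field K] [Algebra k K] :
    _root_.IsConnected (FBase.bcπ f K ⁻¹' connectedComponent x) := by
  obtain ⟨_, _⟩ := exists_closure (k := k) K
  have := geometricallyConnected_bcMap f (AlgebraicClosure k) (AlgebraicClosure K)
  have h' := (bcMap f (AlgebraicClosure k) (AlgebraicClosure K)).isConnected_preimage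
    (Scheme.Hom.isOpenMap _) h (isClosed_connectedComponent.preimage (FBase.bcπ f _).continuous)
  have h'' := h'.image (bcMap f K (AlgebraicClosure K)) (Scheme.Hom.continuous _).continuousOn
  convert h''
  ext z
  constructor
  · intro hz
    obtain ⟨z', rfl⟩ := (bcMap f K (AlgebraicClosure K)).surjective z
    refine ⟨z', ?_, rfl⟩
    show FBase.bcπ f _ (bcMap f _ _ z') ∈ connectedComponent x
    rw [bcMap_π_apply, ← bcMap_π_apply f K (AlgebraicClosure K)]
    exact hz
  · rintro ⟨z', hz', rfl⟩
    show FBase.bcπ f K (bcMap f _ _ z') ∈ connectedComponent x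
    rw [bcMap_π_apply, ← bcMap_π_apply f (AlgebraicClosure k) (AlgebraicClosure K)]
    exact hz'

/-- If a preconnected subset contains the whole fibre over a point of a component, the preimage of that
component is connected. -/
theorem isConnected_preimage_of_fibre (K : Type u) [Field K] [Algebra k K] (x : X) (s : Set ↥(FBase.bc f K))
    (hs : _root_.IsPreconnected s) (hfib : FBase.bcπ f K ⁻¹' {x} ⊆ s) :
    _root_.IsConnected (FBase.bcπ f K ⁻¹' connectedComponent x) := by
  obtain ⟨z, hz⟩ := (FBase.bcπ f K).surjective x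
  have e : FBase.bcπ f K ⁻¹' connectedComponent x = connectedComponent z := by
    refine subset_antisymm (fun w hw => ?_) ?_
    · have hx : x ∈ connectedComponent (FBase.bcπ f K w) := by
        rw [← connectedComponent_eq hw]; exact mem_connectedComponent
      rw [← image_component] at hx
      obtain ⟨v, hv, hvx⟩ := hx
      have hvz : v ∈ connectedComponent z := hs.subset_connectedComponent (hfib hz) (hfib hvx)
      rw [connectedComponent_eq hvz, ← connectedComponent_eq hv]
      exact mem_connectedComponent
    · rw [← hz]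
      exact Set.image_subset_iff.1 ((FBase.bcπ f K).continuous.image_connectedComponent_subset z)
  exact e ▸ isConnected_connectedComponent

theorem bijective_connectedComponentsMap {Y Z : Scheme.{u}} (g : Y ⟶ Z) [GeometricallyConnected g]
    [UniversallyOpen g] : Function.Bijective (Continuous.connectedComponentsMap g.continuous) := by
  refine ⟨fun a b h => ?_, fun c => ?_⟩
  · obtain ⟨a, rfl⟩ := ConnectedComponents.surjective_coe a
    obtain ⟨b, rfl⟩ := ConnectedComponents.surjective_coe b
    have h' : connectedComponent (g a) = connectedComponent (g b) := ConnectedComponents.coe_eq_coe.1 h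
    exact ConnectedComponents.coe_eq_coe.2 (by rw [← preimage_component g a, h', preimage_component g b])
  · obtain ⟨x, rfl⟩ := ConnectedComponents.surjective_coe c
    obtain ⟨y, rfl⟩ := g.surjective x
    exact ⟨ConnectedComponents.mk y, rfl⟩

end Groth.L22.GeomConn
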