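import Mathlib.Topology.Connected.Clopen
import Mathlib.Topology.Separation.Basic
import Mathlib.Topology.Compactness.Compact
import Mathlib.Data.Set.Card
import Mathlib.Topology.LocalAtTarget

/-!
# Connected components in an inverse system of open closed maps with finite fibres
-/

set_option autoImplicit false

open Set Topology

namespace Groth.L22.GeomConn

/-- For an open closed map with a finite fibre onto a connected space, every component is clopen and surjects. -/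
theorem clopen_component {S C : Type*} [TopologicalSpace S] [TopologicalSpace C] [ConnectedSpace C]
    (f : S → C) (hf : Continuous f) (ho : IsOpenMap f) (hc : IsClosedMap f) (c₀ : C)
    (hfin : (f ⁻¹' {c₀}).Finite) (y : S) :
    IsClopen (connectedComponent y) ∧ f '' connectedComponent y = univ := by
  classical
  have hsurj : ∀ U : Set S, IsClopen U → U.Nonempty → f '' U = univ := fun U hU hne => by
    rcases isClopen_iff.1 (⟨hc U hU.1, ho U hU.2⟩ : IsClopen (f '' U)) with h | h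
    · exact absurd h (hne.image f).ne_empty
    · exact h
  have hmeet : ∀ U : Set S, IsClopen U → U.Nonempty → (U ∩ f ⁻¹' {c₀}).Nonempty := fun U hU hne => by
    obtain ⟨s, hs, hs'⟩ := (hsurj U hU hne).symm.subset (mem_univ c₀)
    exact ⟨s, hs, hs'⟩
  let P : ℕ → Prop := fun n => ∃ U : Set S, IsClopen U ∧ y ∈ U ∧ (U ∩ f ⁻¹' {c₀}).ncard = n
  have hex : ∃ n, P n := ⟨_, univ, isClopen_univ, mem_univ y, rfl⟩
  obtain ⟨U, hU, hyU, hn⟩ := Nat.find_spec hex
  have hmin : ∀ V : Set S, IsClopen V → y ∈ V → U ⊆ V := fun V hV hyV => by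
    by_contra hnot
    obtain ⟨s, hs, hsf⟩ := hmeet (U ∩ Vᶜ) (hU.inter hV.compl)
      (by obtain ⟨a, ha, hb⟩ := Set.not_subset.1 hnot; exact ⟨a, ha, hb⟩)
    have hlt : ((U ∩ V) ∩ f ⁻¹' {c₀}).ncard < (U ∩ f ⁻¹' {c₀}).ncard := by
      refine Set.ncard_lt_ncard ⟨fun a ha => ⟨ha.1.1, ha.2⟩, fun h => ?_⟩ (hfin.subset inter_subset_right)
      exact hs.2 (h ⟨hs.1, hsf⟩).1.2
    exact Nat.find_min hex (hn ▸ hlt) ⟨U ∩ V, hU.inter hV, ⟨hyU, hyV⟩, rfl⟩
  have hpre : IsPreconnected U := by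
    rw [isPreconnected_closed_iff]
    intro A B hA hB hAB hUA hUB
    by_contra hne
    rw [not_nonempty_iff_eq_empty] at hne
    have h1 : U ∩ A = U ∩ Bᶜ := by
      ext a
      refine ⟨fun h => ⟨h.1, fun hb => eq_empty_iff_forall_notMem.1 hne a ⟨h.1, h.2, hb⟩⟩, fun h => ?_⟩
      exact ⟨h.1, (hAB h.1).resolve_right h.2⟩
    have hcl : IsClopen (U ∩ A) := ⟨hU.1.inter hA, h1 ▸ hU.2.inter hB.isOpen_compl⟩
    have hcl' : IsClopen (U ∩ (U ∩ A)ᶜ) := hU.inter hcl.compl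
    by_cases hy : y ∈ A
    · obtain ⟨b, hb, hb'⟩ := hUB
      exact eq_empty_iff_forall_notMem.1 hne b ⟨hb, (hmin _ hcl ⟨hyU, hy⟩ hb).2, hb'⟩
    · obtain ⟨a, ha, ha'⟩ := hUA
      exact (hmin _ hcl' ⟨hyU, fun h => hy h.2⟩ ha).2 ⟨ha, ha'⟩
  have heq : connectedComponent y = U :=
    subset_antisymm (hU.connectedComponent_subset hyU) (hpre.subset_connectedComponent hyU)
  exact heq ▸ ⟨hU, hsurj U hU ⟨y, hyU⟩⟩

/-- Components of the source of an open closed map with finite fibres are relatively open over components. -/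
theorem component_spec {Y X : Type*} [TopologicalSpace Y] [TopologicalSpace X] (r : Y → X)
    (hr : Continuous r) (ho : IsOpenMap r) (hc : IsClosedMap r) (hfin : ∀ x, (r ⁻¹' {x}).Finite) (y : Y) :
    r '' connectedComponent y = connectedComponent (r y) ∧
      ∃ O : Set Y, IsOpen O ∧ connectedComponent y = O ∩ r ⁻¹' connectedComponent (r y) := by
  let C := connectedComponent (r y)
  have : ConnectedSpace C := Subtype.connectedSpace isConnected_connectedComponent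
  have hsub : connectedComponent y ⊆ r ⁻¹' C := fun a ha =>
    hr.image_connectedComponent_subset y ⟨a, ha, rfl⟩
  have hy : y ∈ r ⁻¹' C := mem_connectedComponent
  obtain ⟨⟨-, hop⟩, himg⟩ := clopen_component (C.restrictPreimage r) hr.restrictPreimage
    (ho.restrictPreimage C) (hc.restrictPreimage C) ⟨r y, mem_connectedComponent⟩
    (((hfin (r y)).preimage Subtype.val_injective.injOn).subset fun a ha => by
      exact congrArg Subtype.val (show C.restrictPreimage r a = _ from ha))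
    ⟨y, hy⟩
  have e : connectedComponent y = Subtype.val '' connectedComponent (⟨y, hy⟩ : r ⁻¹' C) := by
    rw [← connectedComponentIn_eq_image hy]
    exact subset_antisymm
      (isPreconnected_connectedComponent.subset_connectedComponentIn mem_connectedComponent hsub)
      (isPreconnected_connectedComponentIn.subset_connectedComponent (mem_connectedComponentIn hy))
  refine ⟨?_, ?_⟩
  · rw [e, image_image]
    have := congrArg (Subtype.val '' ·) himg
    simp only [image_image, image_univ, Subtype.range_coe] at this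
    exact this
  · obtain ⟨O, hO, hO'⟩ := isOpen_induced_iff.1 hop
    refine ⟨O, hO, ?_⟩
    rw [e, ← hO', Subtype.image_preimage_coe, inter_comm]

/-- An inverse system of open closed maps with finite discrete fibres over a base, with limit `Z`. -/
structure Sys (Z X : Type*) [TopologicalSpace Z] [TopologicalSpace X] (ι : Type*) [Preorder ι] where
  Y : ι → Type*
  top : ∀ i, TopologicalSpace (Y i)
  p : Z → X
  hp : Continuous p
  hpo : IsOpenMap p
  hpc : IsClosedMap p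
  hpk : ∀ x, IsCompact (p ⁻¹' {x})
  q : ∀ i, Z → Y i
  r : ∀ i, Y i → X
  t : ∀ {i j}, i ≤ j → Y j → Y i
  hq : ∀ i, Continuous (q i)
  hqo : ∀ i, IsOpenMap (q i)
  hqc : ∀ i, IsClosedMap (q i)
  hqs : ∀ i, Function.Surjective (q i)
  hr : ∀ i, Continuous (r i)
  hrq : ∀ i z, r i (q i z) = p z
  hfin : ∀ i x, (r i ⁻¹' {x}).Finite
  hsp : ∀ i a b, r i a = r i b → a ⤳ b → a = b
  ht : ∀ {i j} (h : i ≤ j), Continuous (t h)
  htq : ∀ {i j} (h : i ≤ j) z, t h (q j z) = q i z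
  basis : ∀ W : Set Z, IsOpen W → ∀ w ∈ W, ∃ i, ∃ V : Set (Y i), IsOpen V ∧ q i w ∈ V ∧ q i ⁻¹' V ⊆ W

namespace Sys

variable {Z X ι : Type*} [TopologicalSpace Z] [TopologicalSpace X] [Preorder ι] (S : Sys Z X ι)

attribute [local instance] Sys.top

theorem r_open (i : ι) : IsOpenMap (S.r i) := fun U hU => by
  have : S.r i '' U = S.p '' (S.q i ⁻¹' U) := by
    conv_lhs => rw [← image_preimage_eq U (S.hqs i)]
    rw [image_image]
    exact image_congr fun z _ => S.hrq i z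
  exact this ▸ S.hpo _ (hU.preimage (S.hq i))

theorem r_closed (i : ι) : IsClosedMap (S.r i) := fun U hU => by
  have : S.r i '' U = S.p '' (S.q i ⁻¹' U) := by
    conv_lhs => rw [← image_preimage_eq U (S.hqs i)]
    rw [image_image]
    exact image_congr fun z _ => S.hrq i z
  exact this ▸ S.hpc _ (hU.preimage (S.hq i))

theorem t_open {i j : ι} (h : i ≤ j) : IsOpenMap (S.t h) := fun U hU => by
  have : S.t h '' U = S.q i '' (S.q j ⁻¹' U) := by
    conv_lhs => rw [← image_preimage_eq U (S.hqs j)]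
    rw [image_image]
    exact image_congr fun z _ => S.htq h z
  exact this ▸ S.hqo i _ (hU.preimage (S.hq j))

theorem t_closed {i j : ι} (h : i ≤ j) : IsClosedMap (S.t h) := fun U hU => by
  have : S.t h '' U = S.q i '' (S.q j ⁻¹' U) := by
    conv_lhs => rw [← image_preimage_eq U (S.hqs j)]
    rw [image_image]
    exact image_congr fun z _ => S.htq h z
  exact this ▸ S.hqc i _ (hU.preimage (S.hq j))

theorem r_t {i j : ι} (h : i ≤ j) (a : S.Y j) : S.r i (S.t h a) = S.r j a := by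
  obtain ⟨z, rfl⟩ := S.hqs j a
  rw [S.htq, S.hrq, S.hrq]

variable (z : Z)

/-- Component at stage `i`. -/
def K (i : ι) : Set (S.Y i) := connectedComponent (S.q i z)

theorem K_image (i : ι) : S.r i '' S.K z i = connectedComponent (S.p z) := by
  rw [← S.hrq i z]
  exact (component_spec _ (S.hr i) (S.r_open i) (S.r_closed i) (S.hfin i) _).1

theorem K_open (i : ι) :
    ∃ O : Set (S.Y i), IsOpen O ∧ S.K z i = O ∩ S.r i ⁻¹' connectedComponent (S.p z) := by
  rw [← S.hrq i z]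
  exact (component_spec _ (S.hr i) (S.r_open i) (S.r_closed i) (S.hfin i) _).2

theorem K_subset (i : ι) : S.K z i ⊆ S.r i ⁻¹' connectedComponent (S.p z) := fun a ha => by
  rw [mem_preimage, ← S.K_image z i]
  exact ⟨a, ha, rfl⟩

/-- A relatively clopen nonempty subset of `K i` is all of it. -/
theorem eq_K (i : ι) (A : Set (S.Y i)) (hA : A ⊆ S.K z i) (hc : IsClosed A) (hne : A.Nonempty)
    (O : Set (S.Y i)) (hO : IsOpen O) (hAO : A = O ∩ S.K z i) : A = S.K z i := by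
  refine subset_antisymm hA fun a ha => ?_
  by_contra haA
  obtain ⟨b, hb⟩ := hne
  have hpre : IsPreconnected (S.K z i) := isPreconnected_connectedComponent
  obtain ⟨c, hcK, hcO, hcA⟩ := hpre O Aᶜ hO hc.isOpen_compl
    (fun x hx => (em (x ∈ A)).elim (fun h => Or.inl (hAO.subset h).1) Or.inr)
    ⟨b, hA hb, (hAO.subset hb).1⟩ ⟨a, ha, haA⟩
  exact hcA (hAO.symm.subset ⟨hcO, hcK⟩)

theorem t_image_inter {i j : ι} (h : i ≤ j) (V : Set (S.Y j)) (hV : IsOpen V) :
    ∃ O : Set (S.Y i), IsOpen O ∧ S.t h '' (V ∩ S.K z j) = O ∩ S.r i ⁻¹' connectedComponent (S.p z) := by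
  obtain ⟨O, hO, hK⟩ := S.K_open z j
  refine ⟨S.t h '' (V ∩ O), S.t_open h _ (hV.inter hO), ?_⟩
  ext a
  constructor
  · rintro ⟨b, ⟨hbV, hbK⟩, rfl⟩
    rw [hK] at hbK
    exact ⟨⟨b, ⟨hbV, hbK.1⟩, rfl⟩, by rw [mem_preimage, S.r_t]; exact hbK.2⟩
  · rintro ⟨⟨b, hb, rfl⟩, hC⟩
    refine ⟨b, ⟨hb.1, ?_⟩, rfl⟩
    rw [hK]
    exact ⟨hb.2, by rw [mem_preimage, ← S.r_t h]; exact hC⟩

theorem t_K_subset {i j : ι} (h : i ≤ j) : S.t h '' S.K z j ⊆ S.K z i := by
  have := (S.ht h).image_connectedComponent_subset (S.q j z)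
  rwa [S.htq] at this

theorem t_K {i j : ι} (h : i ≤ j) : S.t h '' S.K z j = S.K z i := by
  obtain ⟨O, hO, e⟩ := S.t_image_inter z h univ isOpen_univ
  rw [univ_inter] at e
  refine S.eq_K z i _ (S.t_K_subset z h) (S.t_closed h _ isClosed_connectedComponent)
    (Set.Nonempty.image _ ⟨_, mem_connectedComponent⟩) O hO ?_
  refine subset_antisymm (fun a ha => ⟨(e.subset ha).1, S.t_K_subset z h ha⟩) fun a ha => ?_
  exact e.symm.subset ⟨ha.1, S.K_subset z i ha.2⟩

/-- Intersection of the preimages of the stagewise components. -/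
def Cinf : Set Z := ⋂ i, S.q i ⁻¹' S.K z i

theorem isClosed_Cinf : IsClosed (S.Cinf z) :=
  isClosed_iInter fun i => isClosed_connectedComponent.preimage (S.hq i)

variable [IsDirectedOrder ι] [Nonempty ι]

theorem q_Cinf (i : ι) : S.q i '' S.Cinf z = S.K z i := by
  refine subset_antisymm (image_subset_iff.2 fun w hw => mem_iInter.1 hw i) fun a ha => ?_
  set x := S.r i a with hx
  have hF : IsCompact (S.p ⁻¹' {x} ∩ S.q i ⁻¹' closure {a}) :=
    (S.hpk x).inter_right (isClosed_closure.preimage (S.hq i))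
  have key : ∀ u : Finset ι,
      ((S.p ⁻¹' {x} ∩ S.q i ⁻¹' closure {a}) ∩ ⋂ j ∈ u, S.q j ⁻¹' S.K z j).Nonempty := fun u => by
    classical
    obtain ⟨j, hj⟩ := (insert i u).exists_le
    obtain ⟨b, hb, hba⟩ := (S.t_K z (hj i (Finset.mem_insert_self i u))).symm.subset ha
    obtain ⟨w, rfl⟩ := S.hqs j b
    rw [S.htq] at hba
    refine ⟨w, ⟨?_, ?_⟩, ?_⟩
    · show S.p w = x
      rw [hx, ← S.hrq i w, hba]
    · show S.q i w ∈ closure {a}
      rw [hba]; exact subset_closure rfl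
    · refine mem_iInter₂.2 fun l hl => ?_
      have hlj := hj l (Finset.mem_insert_of_mem hl)
      show S.q l w ∈ S.K z l
      rw [← S.htq hlj]
      exact S.t_K_subset z hlj ⟨_, hb, rfl⟩
  obtain ⟨w, ⟨hwx, hwa⟩, hw⟩ := hF.inter_iInter_nonempty _
    (fun j => isClosed_connectedComponent.preimage (S.hq j)) key
  refine ⟨w, hw, ?_⟩
  refine (S.hsp i a (S.q i w) ?_ (specializes_iff_mem_closure.2 hwa)).symm
  rw [S.hrq]; exact hwx.symm

theorem q_inter_open (i : ι) (W : Set Z) (hW : IsOpen W) :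
    ∃ O : Set (S.Y i), IsOpen O ∧ S.q i '' (W ∩ S.Cinf z) = O ∩ S.K z i := by
  let T : Set (Set (S.Y i)) := {O | IsOpen O ∧ O ∩ S.K z i ⊆ S.q i '' (W ∩ S.Cinf z)}
  refine ⟨⋃₀ T, isOpen_sUnion fun O hO => hO.1, subset_antisymm ?_ ?_⟩
  · rintro _ ⟨w, ⟨hwW, hwC⟩, rfl⟩
    refine ⟨?_, (S.q_Cinf z i).subset ⟨w, hwC, rfl⟩⟩
    obtain ⟨j, V, hV, hwV, hVW⟩ := S.basis W hW w hwW
    obtain ⟨k, hik, hjk⟩ := exists_ge_ge i j
    obtain ⟨O, hO, e⟩ := S.t_image_inter z hik (S.t hjk ⁻¹' V) (hV.preimage (S.ht hjk))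
    refine ⟨O, ⟨hO, fun a ha => ?_⟩, ?_⟩
    · obtain ⟨b, ⟨hbV, hbK⟩, rfl⟩ := e.symm.subset ⟨ha.1, S.K_subset z i ha.2⟩
      obtain ⟨w', hw', rfl⟩ := (S.q_Cinf z k).symm.subset hbK
      rw [mem_preimage, S.htq] at hbV
      exact ⟨w', ⟨hVW hbV, hw'⟩, (S.htq hik w').symm⟩
    · refine (e.subset ⟨S.q k w, ⟨?_, mem_iInter.1 hwC k⟩, S.htq hik w⟩).1
      rw [mem_preimage, S.htq]; exact hwV
  · rintro a ⟨⟨O, hO, haO⟩, haK⟩
    exact hO.2 ⟨haO, haK⟩

variable [T0Space Z]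

theorem isPreconnected_Cinf : IsPreconnected (S.Cinf z) := by
  rw [isPreconnected_closed_iff]
  intro A B hA hB hAB hCA hCB
  by_contra hne
  rw [not_nonempty_iff_eq_empty] at hne
  have hdis : ∀ w ∈ S.Cinf z, w ∈ A → w ∉ B := fun w hw ha hb =>
    eq_empty_iff_forall_notMem.1 hne w ⟨hw, ha, hb⟩
  have full : ∀ (A' B' : Set Z), IsClosed A' → IsClosed B' → S.Cinf z ⊆ A' ∪ B' →
      (∀ w ∈ S.Cinf z, w ∈ A' → w ∉ B') → (S.Cinf z ∩ A').Nonempty →
      ∀ i, S.q i '' (S.Cinf z ∩ A') = S.K z i := fun A' B' hA' hB' hAB' hd hne' i => by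
    obtain ⟨O, hO, e⟩ := S.q_inter_open z i B'ᶜ hB'.isOpen_compl
    refine S.eq_K z i _ ?_ (S.hqc i _ ((S.isClosed_Cinf z).inter hA')) (hne'.image _) O hO ?_
    · exact (image_mono inter_subset_left).trans (S.q_Cinf z i).subset
    · rw [← e]
      congr 1
      ext w
      exact ⟨fun h => ⟨hd w h.1 h.2, h.1⟩, fun h => ⟨h.2, (hAB' h.2).resolve_right h.1⟩⟩
  have fA := full A B hA hB hAB hdis hCA
  have fB := full B A hB hA (fun w hw => (hAB hw).symm) (fun w hw hb ha => hdis w hw ha hb) hCB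
  let F := S.p ⁻¹' {S.p z}
  let U : ∀ i, S.Y i → Set (S.Y i) := fun i a => (⋃ c ∈ S.r i ⁻¹' {S.p z} \ {a}, closure {c})ᶜ
  have hUo : ∀ i a, IsOpen (U i a) := fun i a =>
    (((S.hfin i (S.p z)).subset sdiff_subset).isClosed_biUnion fun _ _ => isClosed_closure).isOpen_compl
  have hUmem : ∀ i a, S.r i a = S.p z → a ∈ U i a := fun i a ha h => by
    obtain ⟨c, ⟨hc, hca⟩, hac⟩ := mem_iUnion₂.1 h
    exact hca (S.hsp i c a (hc.trans ha.symm) (specializes_iff_mem_closure.2 hac))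
  have hUeq : ∀ i a b, S.r i b = S.p z → b ∈ U i a → b = a := fun i a b hb hbU => by
    by_contra hba
    exact hbU (mem_iUnion₂.2 ⟨b, ⟨hb, hba⟩, subset_closure rfl⟩)
  let Ω : ι → Set (Z × Z) := fun i => ⋃ a ∈ S.r i ⁻¹' {S.p z}, ⋃ b ∈ S.r i ⁻¹' {S.p z} \ {a},
    (S.q i ⁻¹' U i a) ×ˢ (S.q i ⁻¹' U i b)
  have hΩ : ∀ i, IsOpen (Ω i) := fun i => isOpen_biUnion fun a _ => isOpen_biUnion fun b _ =>
    ((hUo i a).preimage (S.hq i)).prod ((hUo i b).preimage (S.hq i))
  have hS : IsCompact (((S.Cinf z ∩ A) ∩ F) ×ˢ ((S.Cinf z ∩ B) ∩ F)) :=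
    ((S.hpk _).inter_left ((S.isClosed_Cinf z).inter hA)).prod
      ((S.hpk _).inter_left ((S.isClosed_Cinf z).inter hB))
  have hcov : ((S.Cinf z ∩ A) ∩ F) ×ˢ ((S.Cinf z ∩ B) ∩ F) ⊆ ⋃ i, Ω i := by
    rintro ⟨a, b⟩ ⟨⟨⟨haC, haA⟩, haF⟩, ⟨⟨hbC, hbB⟩, hbF⟩⟩
    have hne' : a ≠ b := fun h => hdis a haC haA (h ▸ hbB)
    obtain ⟨W, hW, hx⟩ := exists_isOpen_xor_mem hne'
    obtain ⟨i, hi⟩ : ∃ i, S.q i a ≠ S.q i b := by
      rcases hx with ⟨h1, h2⟩ | ⟨h1, h2⟩
      · obtain ⟨i, V, -, hwV, hV⟩ := S.basis W hW a h1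
        exact ⟨i, fun h => h2 (hV (show S.q i b ∈ V from h ▸ hwV))⟩
      · obtain ⟨i, V, -, hwV, hV⟩ := S.basis W hW b h1
        exact ⟨i, fun h => h2 (hV (show S.q i a ∈ V from h ▸ hwV))⟩
    have ha' : S.r i (S.q i a) = S.p z := (S.hrq i a).trans haF
    have hb' : S.r i (S.q i b) = S.p z := (S.hrq i b).trans hbF
    exact mem_iUnion.2 ⟨i, mem_iUnion₂.2 ⟨S.q i a, ha', mem_iUnion₂.2 ⟨S.q i b, ⟨hb', Ne.symm hi⟩,
      ⟨hUmem i _ ha', hUmem i _ hb'⟩⟩⟩⟩
  obtain ⟨u, hu⟩ := hS.elim_finite_subcover Ω hΩ hcov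
  obtain ⟨k, hk⟩ := u.exists_le
  obtain ⟨a, haA, hak⟩ := (fA k).symm.subset (mem_connectedComponent : S.q k z ∈ S.K z k)
  obtain ⟨b, hbB, hbk⟩ := (fB k).symm.subset (mem_connectedComponent : S.q k z ∈ S.K z k)
  have haF : S.p a = S.p z := by rw [← S.hrq k a, hak, S.hrq]
  have hbF : S.p b = S.p z := by rw [← S.hrq k b, hbk, S.hrq]
  obtain ⟨i, hiu, hab⟩ := mem_iUnion₂.1 (hu (show (a, b) ∈ _ from ⟨⟨haA, haF⟩, ⟨hbB, hbF⟩⟩))
  obtain ⟨c, -, hc⟩ := mem_iUnion₂.1 hab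
  obtain ⟨d, ⟨-, hdc⟩, hmc, hmd⟩ := mem_iUnion₂.1 hc
  have h1 := hUeq i c _ ((S.hrq i a).trans haF) hmc
  have h2 := hUeq i d _ ((S.hrq i b).trans hbF) hmd
  refine hdc ?_
  show d = c
  rw [← h1, ← h2, ← S.htq (hk i hiu) a, ← S.htq (hk i hiu) b, hak, hbk]

/-- The image of a component of the limit is a component of the base. -/
theorem image_component (z : Z) : S.p '' connectedComponent z = connectedComponent (S.p z) := by
  refine subset_antisymm (S.hp.image_connectedComponent_subset z) ?_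
  have hz : z ∈ S.Cinf z := mem_iInter.2 fun i => mem_connectedComponent
  have hsub := (S.isPreconnected_Cinf z).subset_connectedComponent hz
  intro x hx
  obtain ⟨a, ha, rfl⟩ := (S.K_image z (Classical.arbitrary ι)).symm.subset hx
  obtain ⟨w, hw, rfl⟩ := (S.q_Cinf z _).symm.subset ha
  exact ⟨w, hsub hw, (S.hrq _ w).symm⟩

end Sys

end Groth.L22.GeomConn
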